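import Cfsg.Agent.Phan18.Triple

/-!
The triples of a weak Phan system over the field with four elements made coherent.
-/

set_option autoImplicit false
set_option linter.unusedSectionVars false
set_option maxHeartbeats 800000

namespace Cfsg.Agent.Phan18

open Cfsg.Agent.Unitary Cfsg.Agent.KSG55.Phan Matrix

universe u v

variable {F : Type u} [Field F] [Fintype F] (hF : Fintype.card F = 2 ^ 2) {G : Type v} [Group G]

/-- The properties of the homomorphism of one triple. -/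
structure Tri (f : SU 4 F 2 →* G) (A B C V V' : Subgroup G) : Prop where
  inj : Function.Injective f
  rV : (f.comp (bl 4 3 0 : SU 3 F 2 →* SU 4 F 2)).range = V
  rV' : (f.comp (bl 4 3 1 : SU 3 F 2 →* SU 4 F 2)).range = V'
  rA : (f.comp (bl 4 2 0 : SU 2 F 2 →* SU 4 F 2)).range = A
  rB : (f.comp (bl 4 2 1 : SU 2 F 2 →* SU 4 F 2)).range = B
  rC : (f.comp (bl 4 2 2 : SU 2 F 2 →* SU 4 F 2)).range = C

theorem twist_mat {a : ℕ} (τ : F ≃+* F) (d : Fin a → F) (hd : ∀ i, d i ^ (2 + 1) = 1) (X : SU a F 2) (i j : Fin a) :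
    mat (twist τ d hd X) i j = d i * τ (mat X i j) * (d j)⁻¹ := by
  show tmat τ d (mat X) i j = _
  rw [tmat, Matrix.mul_assoc, Matrix.diagonal_mul, Matrix.mul_diagonal, Matrix.map_apply, mul_assoc]

theorem twist_eI {a : ℕ} (τ : F ≃+* F) (d : Fin a → F) (hd : ∀ i, d i ^ (2 + 1) = 1) {X : SU a F 2} {i j : Fin a}
    {c : F} (h : X • (eI i : Fin a → F) = c • eI j) :
    twist τ d hd X • (eI i : Fin a → F) = ((d i)⁻¹ * τ c * d j) • eI j := by
  have he : ∀ l, tvec τ d (eI l) = d l • (eI l : Fin a → F) := fun l => funext fun m => by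
    by_cases e : m = l
    · subst e; simp [tvec, eI]
    · simp [tvec, eI, e]
  have h' := twist_tvec τ hd X (eI i)
  rw [he, lineSmul, h] at h'
  have hc : tvec τ d (c • (eI j : Fin a → F)) = (τ c * d j) • eI j := by
    funext m
    by_cases e : m = j
    · subst e; simp [tvec, eI, mul_comm]
    · simp [tvec, eI, e]
  rw [hc, ← eq_inv_smul_iff₀ (ne_zero_of_norm (hd i)), smul_smul] at h'
  rw [h', mul_assoc]

include hF

/-- Equal ranges give equal restrictions. -/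
theorem exists_block {α : MulAut (SU 3 F 2)} {k : ℕ} (hk : k + 2 ≤ 3)
    (h : ∀ X, ∃ X', α (bl 3 2 k X) = bl 3 2 k X') {w : F} (hw : w ^ 3 = 1) (h1 : w ≠ 1) :
    ∃ (τ : F ≃+* F) (r : F) (hd : ∀ i, (![r, 1] : Fin 2 → F) i ^ (2 + 1) = 1),
      ∀ X, α (bl 3 2 k X) = bl 3 2 k (twist τ ![r, 1] hd X) := by
  choose a ha using h
  let a' : SU 2 F 2 →* SU 2 F 2 := MonoidHom.mk' a fun X Y => bl_injective hk (by rw [map_mul, ← ha, ← ha, ← ha, map_mul, map_mul])
  have hinj : Function.Injective a' := fun X Y e => bl_injective hk (α.injective (by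
    rw [ha, ha]; exact congrArg (bl 3 2 k) e))
  let α0 : MulAut (SU 2 F 2) := MulEquiv.ofBijective a' ((Finite.injective_iff_bijective).1 hinj)
  have hdiag : ∀ X : SU 2 F 2, mat X 0 1 = 0 → mat (α0 X) 0 1 = 0 := by
    intro X hX
    have hone : mat (1 : SU 2 F 2) 0 1 = 0 := by show (1 : Matrix (Fin 2) (Fin 2) F) 0 1 = 0; simp
    rcases su2_cases hF hw h1 (α0 X) with e | e | e | e
    · rw [e]; exact hone
    · rw [e]; rfl
    · rw [e, ((delta_isDiag hF hw).inv hw h1 hF).mat_eq hw h1 hF]; simp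
    · rw [← map_mul, MulEquiv.map_eq_one_iff] at e
      have hX1 : X = 1 := by
        have h00 := congrArg (fun g : SU 2 F 2 => mat g 0 0) e
        change (mat X * mat X) 0 0 = (1 : Matrix (Fin 2) (Fin 2) F) 0 0 at h00
        obtain ⟨-, -, hn⟩ := su2_shape hF X
        rw [hX, zero_pow (by omega), add_zero] at hn
        simp [Matrix.mul_apply, Fin.sum_univ_two, hX] at h00
        refine su2_ext hF ?_ (hX.trans hone.symm)
        show mat X 0 0 = (1 : Matrix (Fin 2) (Fin 2) F) 0 0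
        rw [Matrix.one_apply_eq]
        linear_combination -(mat X 0 0) * h00 + hn
      rw [hX1, map_one]; exact hone
  obtain ⟨τ, r, hd, hτ⟩ := exists_twist hF α0 hdiag
  exact ⟨τ, r, hd, fun X => by rw [← hτ]; exact ha X⟩

/-- An automorphism of `SU₃(2)` preserving both blocks is a twist. -/
theorem exists_twist3 (α : MulAut (SU 3 F 2)) (h0 : ∀ X, ∃ X', α (bl 3 2 0 X) = bl 3 2 0 X')
    (h1' : ∀ X, ∃ X', α (bl 3 2 1 X) = bl 3 2 1 X') :
    ∃ (τ : F ≃+* F) (d : Fin 3 → F) (hd : ∀ i, d i ^ (2 + 1) = 1), ∀ g, α g = twist τ d hd g := by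
  obtain ⟨w, hw, h1⟩ := exists_omega hF
  obtain ⟨τ, r, hr, e0⟩ := exists_block hF (by norm_num) h0 hw h1
  obtain ⟨τ', r', hr', e1⟩ := exists_block hF (by norm_num) h1' hw h1
  have hr0 : r ^ 3 = 1 := hr 0
  have hr0' : r' ^ 3 = 1 := hr' 0
  have hrne : r ≠ 0 := fun e => by simp [e] at hr0
  have hrne' : r' ≠ 0 := fun e => by simp [e] at hr0'
  have hw' : τ w = τ' w := by
    have h := congrArg α (rel1 hF hw h1)
    rw [map_mul, map_mul, map_mul, map_inv, d0, d1, e0, e0, e1, mul_inv_eq_iff_eq_mul] at h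
    have hW : bl 3 2 0 (twist τ ![r, 1] hr (W hF)) • (eI 1 : Fin 3 → F) = r • eI 0 :=
      bl_smul_eI (show 0 + 2 ≤ 3 by norm_num) (i := 1) (j := 0) (by
        rw [twist_eI τ _ hr (c := 1) (by rw [one_smul]; exact W_e1 hF)]; simp)
    have hD : bl 3 2 0 (twist τ ![r, 1] hr (delta hF hw)) • (eI 0 : Fin 3 → F) = τ w • eI 0 :=
      bl_smul_eI (show 0 + 2 ≤ 3 by norm_num) (i := 0) (j := 0) (by
        rw [twist_eI τ _ hr (j := 0) (c := w) (by rw [delta_isDiag hF hw 0]; simp [pw_one hw])]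
        congr 1
        simp; field_simp)
    have hD' : bl 3 2 1 (twist τ' ![r', 1] hr' (delta hF hw)) • (eI 1 : Fin 3 → F) = τ' w • eI 1 :=
      bl_smul_eI (show 1 + 2 ≤ 3 by norm_num) (i := 0) (j := 0) (by
        rw [twist_eI τ' _ hr' (j := 0) (c := w) (by rw [delta_isDiag hF hw 0]; simp [pw_one hw])]
        congr 1
        simp; field_simp)
    have h' := congrArg (fun g : SU 3 F 2 => g • (eI 1 : Fin 3 → F)) h
    simp only [mul_smul] at h'
    rw [hD', lineSmul, hW, lineSmul, lineSmul,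
      bl_fix hF (show 1 + 2 ≤ 3 by norm_num) _ (j := (0 : Fin 3)) (Or.inl (by simp)), hD, smul_smul, smul_smul] at h'
    have := congrFun h' 0
    simp [eI] at this
    exact (mul_left_cancel₀ hrne ((mul_comm _ _).trans this)).symm
  have hττ : τ = τ' := RingEquiv.ext fun x => by
    rcases elt_cases hF hw h1 x with rfl | rfl | rfl | rfl
    · rw [map_zero, map_zero]
    · rw [map_one, map_one]
    · exact hw'
    · rw [map_pow, map_pow, hw']
  subst hττ
  have hd : ∀ i, (![r * r', r', 1] : Fin 3 → F) i ^ (2 + 1) = 1 := fun i => by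
    fin_cases i <;> simp [mul_pow, hr0, hr0']
  refine ⟨τ, _, hd, ?_⟩
  set T := twist τ (![r * r', r', 1] : Fin 3 → F) hd with hT
  let Te : SU 3 F 2 ≃* SU 3 F 2 :=
    MulEquiv.ofBijective T ((Finite.injective_iff_bijective).1 (twist_injective τ hd))
  have b0 : ∀ X, T (bl 3 2 0 X) = α (bl 3 2 0 X) := fun X => by
    have he : ∀ i, (![r * r', r'] : Fin 2 → F) i ^ (2 + 1) = 1 := fun i => by
      fin_cases i <;> simp [mul_pow, hr0, hr0']
    rw [e0, hT, twist_bl (k := 0) (by norm_num) _ _ he fun i => by fin_cases i <;> rfl]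
    refine congrArg _ (su2_ext hF ?_ ?_) <;> rw [twist_mat, twist_mat] <;> simp <;> field_simp
  have b1 : ∀ X, T (bl 3 2 1 X) = α (bl 3 2 1 X) := fun X => by
    rw [e1, hT, twist_bl (k := 1) (by norm_num) _ _ hr' fun i => by fin_cases i <;> rfl]
  intro g
  have := rigid hF (Te.symm.toMonoidHom.comp α.toMonoidHom)
    (fun X => by show Te.symm (α _) = _; rw [← b0]; exact Te.symm_apply_apply _)
    (fun X => by show Te.symm (α _) = _; rw [← b1]; exact Te.symm_apply_apply _) g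
  exact (Te.apply_symm_apply (α g)).symm.trans (congrArg Te this)

/-- Adjusting the next triple. -/
theorem exists_next4 {f f' : SU 4 F 2 →* G} {A B C D V V' V'' : Subgroup G} (hf : Tri f A B C V V')
    (hf' : Tri f' B C D V' V'') :
    ∃ f'' : SU 4 F 2 →* G, Tri f'' B C D V' V'' ∧ f''.comp (bl 4 3 0) = f.comp (bl 4 3 1) := by
  classical
  set P := f.comp (bl 4 3 1 : SU 3 F 2 →* SU 4 F 2) with hP
  set Q := f'.comp (bl 4 3 0 : SU 3 F 2 →* SU 4 F 2) with hQ
  have hPi : Function.Injective P := hf.inj.comp (bl_injective (by norm_num))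
  have hQi : Function.Injective Q := hf'.inj.comp (bl_injective (by norm_num))
  let α : MulAut (SU 3 F 2) := ((MonoidHom.ofInjective hPi).trans
    (MulEquiv.subgroupCongr (hf.rV'.trans hf'.rV.symm))).trans (MonoidHom.ofInjective hQi).symm
  have hα : ∀ Y, Q (α Y) = P Y := fun Y =>
    congrArg Subtype.val ((MonoidHom.ofInjective hQi).apply_symm_apply _)
  have hblk : ∀ k l, k + 2 ≤ 3 → l = k + 1 → (f.comp (bl 4 2 l : SU 2 F 2 →* SU 4 F 2)).range =
      (f'.comp (bl 4 2 k : SU 2 F 2 →* SU 4 F 2)).range → ∀ X, ∃ X', α (bl 3 2 k X) = bl 3 2 k X' := by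
    intro k l hk hl he X
    obtain ⟨X', hX'⟩ : f (bl 4 2 l X) ∈ (f'.comp (bl 4 2 k : SU 2 F 2 →* SU 4 F 2)).range := he ▸ ⟨X, rfl⟩
    refine ⟨X', hQi ?_⟩
    rw [hα, hP, hQ, MonoidHom.comp_apply, MonoidHom.comp_apply,
      bl_comp_apply (m := l) (show 1 + 3 ≤ 4 by norm_num) hk (by omega),
      bl_comp_apply (m := k) (show 0 + 3 ≤ 4 by norm_num) hk (by omega)]
    exact hX'.symm
  obtain ⟨τ, d, hd, hτ⟩ := exists_twist3 hF α (hblk 0 1 (by norm_num) rfl (hf.rB.trans hf'.rA.symm))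
    (hblk 1 2 (by norm_num) rfl (hf.rC.trans hf'.rB.symm))
  set D4 : Fin 4 → F := ![d 0, d 1, d 2, 1] with hD4
  have hD : ∀ i, D4 i ^ (2 + 1) = 1 := fun i => by
    fin_cases i
    exacts [hd 0, hd 1, hd 2, one_pow _]
  set T := twist τ D4 hD with hT
  have hr : ∀ (a k : ℕ), k + a ≤ 4 →
      ((f'.comp T).comp (bl 4 a k : SU a F 2 →* SU 4 F 2)).range = (f'.comp (bl 4 a k)).range := by
    intro a k h
    have he : ∀ i, (fun i : Fin a => D4 (shift k h i)) i ^ (2 + 1) = 1 := fun i => hD _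
    refine le_antisymm ?_ ?_ <;> rintro _ ⟨X, rfl⟩
    · exact ⟨twist τ _ he X, by simp [hT, twist_bl h τ hD he fun i => rfl]⟩
    · obtain ⟨Y, rfl⟩ := (Finite.injective_iff_surjective).1 (twist_injective τ he) X
      exact ⟨Y, by simp [hT, twist_bl h τ hD he fun i => rfl]⟩
  refine ⟨f'.comp T, ⟨hf'.inj.comp (twist_injective τ hD), (hr 3 0 (by norm_num)).trans hf'.rV,
    (hr 3 1 (by norm_num)).trans hf'.rV', (hr 2 0 (by norm_num)).trans hf'.rA, (hr 2 1 (by norm_num)).trans hf'.rB,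
    (hr 2 2 (by norm_num)).trans hf'.rC⟩, MonoidHom.ext fun Y => ?_⟩
  show f' (T (bl 4 3 0 Y)) = P Y
  rw [hT, twist_bl (k := 0) (by norm_num) τ hD hd (fun i => by fin_cases i <;> rfl), ← hτ]
  exact hα Y

/-- The coherent system of triples. -/
theorem exists_system (n : ℕ) (U V : ℕ → Subgroup G)
    (h2 : ∀ k, k + 1 < n → Cfsg.IsStandardUnitaryPair (V k) (U k) (U (k + 1)) F 2)
    (h1 : ∀ i j, i + 2 ≤ j → j < n → ∀ x ∈ U i, ∀ y ∈ U j, x * y = y * x)
    (h4 : ∀ k, k + 2 < n → ∃ g : SU 4 F 2 →* ↥(V k ⊔ V (k + 1)), Function.Surjective g) :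
    ∃ f : ℕ → (SU 4 F 2 →* G), (∀ k, k + 2 < n → Tri (f k) (U k) (U (k + 1)) (U (k + 2)) (V k) (V (k + 1))) ∧
      ∀ k, k + 3 < n → (f (k + 1)).comp (bl 4 3 0) = (f k).comp (bl 4 3 1) := by
  classical
  have hφ : ∀ k, ∃ φ : SU 4 F 2 →* G, k + 2 < n → Tri φ (U k) (U (k + 1)) (U (k + 2)) (V k) (V (k + 1)) := fun k => by
    by_cases h : k + 2 < n
    · obtain ⟨g, hg⟩ := h4 k h
      obtain ⟨f, a, b, c, d, e, i⟩ :=
        exists_triple hF (h2 k (by omega)) (h2 (k + 1) (by omega)) (h1 k (k + 2) le_rfl h) g hg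
      exact ⟨f, fun _ => ⟨a, b, c, d, e, i⟩⟩
    · exact ⟨1, fun h' => absurd h' h⟩
  choose φ hφ using hφ
  have hstep : ∀ (k : ℕ) (p : SU 4 F 2 →* G), ∃ p' : SU 4 F 2 →* G,
      k + 3 < n → Tri p (U k) (U (k + 1)) (U (k + 2)) (V k) (V (k + 1)) →
        Tri p' (U (k + 1)) (U (k + 2)) (U (k + 3)) (V (k + 1)) (V (k + 2)) ∧
          p'.comp (bl 4 3 0) = p.comp (bl 4 3 1) := fun k p => by
    by_cases h : k + 3 < n ∧ Tri p (U k) (U (k + 1)) (U (k + 2)) (V k) (V (k + 1))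
    · obtain ⟨p', hp'⟩ := exists_next4 hF h.2 (hφ (k + 1) (by omega))
      exact ⟨p', fun _ _ => hp'⟩
    · exact ⟨1, fun h' h'' => absurd ⟨h', h''⟩ h⟩
  choose nxt hnxt using hstep
  let ψ : ℕ → (SU 4 F 2 →* G) := fun k => Nat.rec (φ 0) (fun j p => nxt j p) k
  have hgood : ∀ k, k + 2 < n → Tri (ψ k) (U k) (U (k + 1)) (U (k + 2)) (V k) (V (k + 1)) := by
    intro k
    induction k with
    | zero => exact hφ 0
    | succ k ih => exact fun h => (hnxt k (ψ k) (by omega) (ih (by omega))).1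
  exact ⟨ψ, hgood, fun k h => (hnxt k (ψ k) h (hgood k (by omega))).2⟩

end Cfsg.Agent.Phan18
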