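import Mathlib

/-!
The combinatorics of three commuting elements of order three in `SU₄(2)`, written additively on exponents.
-/

set_option autoImplicit false
set_option maxRecDepth 100000
set_option maxHeartbeats 1000000

namespace Cfsg.Agent.Phan18.Comb

/-- The parities of the numbers of entries equal to `1` and to `0`. -/
def tau (v : Fin 4 → ZMod 3) : Bool × Bool :=
  ((xor (xor (decide (v 0 = 1)) (decide (v 1 = 1))) (xor (decide (v 2 = 1)) (decide (v 3 = 1)))),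
   (xor (xor (decide (v 0 = 0)) (decide (v 1 = 0))) (xor (decide (v 2 = 0)) (decide (v 3 = 0)))))

/-- A possible element: nonzero, determinant one, trace equal to that of the inverse. -/
def Ok (v : Fin 4 → ZMod 3) : Prop := v ≠ 0 ∧ v 0 + v 1 + v 2 + v 3 = 0 ∧ tau v = tau (-v)

/-- A root vector. -/
def root (i j : Fin 4) : Fin 4 → ZMod 3 := fun k => if k = i then 1 else if k = j then 2 else 0

theorem eta4 {β : Type*} (v : Fin 4 → β) : v = ![v 0, v 1, v 2, v 3] := funext fun i => by fin_cases i <;> rfl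

theorem ok_cases {v : Fin 4 → ZMod 3} (h : Ok v) :
    (∃ i j : Fin 4, i ≠ j ∧ v = root i j) ∨ ∀ i, v i ≠ 0 := by
  obtain ⟨h0, h1, h2⟩ := h
  have key : ∀ a b c d : ZMod 3, ![a, b, c, d] ≠ 0 → a + b + c + d = 0 → tau ![a, b, c, d] = tau (-![a, b, c, d]) →
      (∃ i j : Fin 4, i ≠ j ∧ ![a, b, c, d] = root i j) ∨ ∀ i, ![a, b, c, d] i ≠ 0 := by decide
  rw [eta4 v] at h0 h2 ⊢
  exact key _ _ _ _ h0 h1 h2

theorem tau_root : ∀ i j : Fin 4, i ≠ j → tau (root i j) = (true, false) := by decide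

theorem tau_full {v : Fin 4 → ZMod 3} (h : Ok v) (hv : ∀ i, v i ≠ 0) : tau v = (false, false) := by
  obtain ⟨-, h1, -⟩ := h
  have key : ∀ a b c d : ZMod 3, a + b + c + d = 0 → (∀ i, ![a, b, c, d] i ≠ 0) →
      tau ![a, b, c, d] = (false, false) := by decide
  rw [eta4 v] at hv ⊢
  exact key _ _ _ _ h1 hv

theorem full_pair {a b : Fin 4 → ZMod 3} (ha : ∀ i, a i ≠ 0) (hb : ∀ i, b i ≠ 0) (hab : a ≠ b) (hn : a + b ≠ 0)
    (h : ∀ i, (a + b) i ≠ 0) : False := by
  refine hab (funext fun i => ?_)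
  have key : ∀ x y : ZMod 3, x ≠ 0 → y ≠ 0 → x + y ≠ 0 → x = y := by decide
  exact key _ _ (ha i) (hb i) (h i)

theorem root_pair : ∀ i j k l : Fin 4, i ≠ j → k ≠ l → root i j ≠ root k l →
    (∃ u v : Fin 4, u ≠ v ∧ root i j + root k l = root u v) →
    (k = j ∧ l ≠ i) ∨ (l = i ∧ k ≠ j) := by decide

/-- Two members of a chain. -/
theorem pair {a b : Fin 4 → ZMod 3} (ha : Ok a) (hb : Ok b) (hs : Ok (a + b)) (hne : a ≠ b)
    (h1 : tau a = tau b) (h2 : tau (a + b) = tau a) :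
    ∃ x y z : Fin 4, x ≠ y ∧ y ≠ z ∧ x ≠ z ∧ ∃ s : ZMod 3, s ≠ 0 ∧ a = s • root x y ∧ b = s • root y z := by
  rcases ok_cases ha with ⟨i, j, hij, rfl⟩ | hfa
  · rw [tau_root i j hij] at h1 h2
    rcases ok_cases hb with ⟨k, l, hkl, rfl⟩ | hfb
    swap
    · rw [tau_full hb hfb] at h1; simp at h1
    rcases ok_cases hs with hu | hfs
    swap
    · rw [tau_full hs hfs] at h2; simp at h2
    obtain ⟨u, v, huv, e⟩ := hu
    rcases root_pair i j k l hij hkl hne ⟨u, v, huv, e⟩ with ⟨rfl, hl⟩ | ⟨rfl, hk⟩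
    · exact ⟨i, k, l, hij, hkl, Ne.symm hl, 1, one_ne_zero, (one_smul _ _).symm, (one_smul _ _).symm⟩
    · have neg : ∀ p q : Fin 4, p ≠ q → root p q = (2 : ZMod 3) • root q p := by decide
      exact ⟨j, l, k, Ne.symm hij, Ne.symm hkl, Ne.symm hk, 2, by decide, neg _ _ hij, neg _ _ hkl⟩
  · rw [tau_full ha hfa] at h1 h2
    rcases ok_cases hb with ⟨k, l, hkl, rfl⟩ | hfb
    · rw [tau_root k l hkl] at h1; simp at h1
    rcases ok_cases hs with ⟨k, l, hkl, e⟩ | hfs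
    · rw [e, tau_root k l hkl] at h2; simp at h2
    exact (full_pair hfa hfb hne hs.1 hfs).elim

/-- The three elements. -/
theorem triple {a b b' c : Fin 4 → ZMod 3} (ha : Ok a) (hb : Ok b) (hs : Ok (a + b)) (hne : a ≠ b)
    (h1 : tau a = tau b) (h2 : tau (a + b) = tau a) (hb' : b' = b ∨ b' = -b) (hc : Ok c) (hs' : Ok (b' + c))
    (hne' : b' ≠ c) (h1' : tau b' = tau c) (h2' : tau (b' + c) = tau b')
    (hsA : ∀ i, ∃ j, a j = -a i ∧ c j = c i) (hsC : ∀ i, ∃ j, c j = -c i ∧ a j = a i) :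
    ∃ σ : Fin 4 → Fin 4, Function.Injective σ ∧ ∃ s t : ZMod 3, s ≠ 0 ∧ t ≠ 0 ∧
      a ∘ σ = ![s, -s, 0, 0] ∧ b ∘ σ = ![0, s, -s, 0] ∧ b' ∘ σ = ![0, t, -t, 0] ∧ c ∘ σ = ![0, 0, t, -t] := by
  obtain ⟨x, y, z, hxy, hyz, hxz, s, hs0, rfl, rfl⟩ := pair ha hb hs hne h1 h2
  obtain ⟨w, hwx, hwy, hwz⟩ : ∃ w : Fin 4, w ≠ x ∧ w ≠ y ∧ w ≠ z :=
    (show ∀ x y z : Fin 4, ∃ w, w ≠ x ∧ w ≠ y ∧ w ≠ z by decide) x y z
  have hbok : Ok b' := by
    rcases hb' with rfl | rfl
    · exact hb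
    · obtain ⟨e0, e1, e2⟩ := hb
      refine ⟨neg_ne_zero.2 e0, ?_, by rw [neg_neg]; exact e2.symm⟩
      simp only [Pi.neg_apply]
      linear_combination -e1
  obtain ⟨x', y', z', hxy', hyz', hxz', t, ht0, hb'e, rfl⟩ := pair hbok hc hs' hne' h1' h2'
  set σ : Fin 4 → Fin 4 := ![x, y, z, w]
  have hσ : Function.Injective σ := by
    intro i j e
    fin_cases i <;> fin_cases j <;> simp [σ] at e ⊢ <;>
      first | exact hxy e | exact hxz e | exact hyz e | exact hxy e.symm | exact hxz e.symm | exact hyz e.symm |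
        exact hwx e | exact hwy e | exact hwz e | exact hwx e.symm | exact hwy e.symm | exact hwz e.symm
  have hcompl : ∀ v : Fin 4 → ZMod 3, ∀ p, ![v p, -v p, 0, 0] = ![v p, 2 * v p, 0, 0] := fun v p => by
    rw [show (2 : ZMod 3) = -1 from rfl, neg_one_mul]
  have ev : ∀ p q : Fin 4, ∀ r : ZMod 3, ∀ i, (r • root p q) i = if i = p then r else if i = q then -r else 0 := by
    decide
  -- the values of c at the four points
  set c := t • root y' z' with hcdef
  have cw : c x = c y := by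
    obtain ⟨j, e1, e2⟩ := hsA x
    rw [ev, ev, if_pos rfl] at e1
    by_cases hj : j = y
    · rw [← hj, e2]
    · exfalso
      by_cases hjx : j = x
      · rw [if_pos hjx] at e1
        exact hs0 ((show ∀ r : ZMod 3, r = -r → r = 0 by decide) s e1)
      · rw [if_neg hjx, if_neg hj] at e1
        exact hs0 (neg_eq_zero.1 e1.symm)
  have hbz : ∀ i, i ≠ y → i ≠ z → b' i = 0 := fun i hi hi' => by
    rcases hb' with rfl | rfl <;> simp [ev, hi, hi']
  have hbyz : b' y ≠ 0 ∧ b' z = -b' y := by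
    rcases hb' with rfl | rfl <;> simp [ev, hs0, hyz.symm]
  have hy' : (x' = y ∧ y' = z) ∨ (x' = z ∧ y' = y) := by
    have hx1 : b' x' = t := by rw [hb'e, ev, if_pos rfl]
    have hy1 : b' y' = -t := by rw [hb'e, ev, if_neg (Ne.symm hxy'), if_pos rfl]
    have m1 : x' = y ∨ x' = z := by
      by_contra hn; push Not at hn; exact ht0 (hx1 ▸ hbz x' hn.1 hn.2)
    have m2 : y' = y ∨ y' = z := by
      by_contra hn; push Not at hn; exact ht0 (neg_eq_zero.1 (hy1 ▸ hbz y' hn.1 hn.2))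
    rcases m1 with m1 | m1 <;> rcases m2 with m2 | m2
    · exact absurd (m1.trans m2.symm) hxy'
    · exact Or.inl ⟨m1, m2⟩
    · exact Or.inr ⟨m1, m2⟩
    · exact absurd (m1.trans m2.symm) hxy'
  rcases hy' with ⟨rfl, rfl⟩ | ⟨rfl, rfl⟩
  swap
  · -- the second middle would be paired with the first
    exfalso
    rw [hcdef, ev, ev, if_neg hxy, if_pos rfl] at cw
    by_cases h : x = z'
    · rw [if_pos h] at cw
      exact ht0 ((show ∀ r : ZMod 3, -r = r → r = 0 by decide) t cw)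
    · rw [if_neg h] at cw
      exact ht0 cw.symm
  have hz'w : z' = w := by
    have h1 : z' ≠ x := fun e => by
      rw [hcdef, ev, ev, if_neg hxz, if_pos e.symm, if_neg hyz, if_neg (fun h => hxy (e.symm.trans h.symm))] at cw
      exact ht0 (neg_eq_zero.1 cw)
    exact (show ∀ x y z w u : Fin 4, x ≠ y → x ≠ z → y ≠ z → w ≠ x → w ≠ y → w ≠ z → u ≠ x → u ≠ y → u ≠ z → u = w
      by decide) x x' y' w z' hxy hxz hyz hwx hwy hwz h1 (Ne.symm hxz') (Ne.symm hyz')
  subst hz'w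
  refine ⟨σ, hσ, s, t, hs0, ht0, ?_, ?_, ?_, ?_⟩ <;> funext i <;> fin_cases i <;>
    simp [σ, hb'e, hcdef, ev, hxy, hxz, hyz, hxy.symm, hxz.symm, hyz.symm, hwx, hwy, hwz, hwx.symm, hwy.symm,
      hwz.symm]

end Cfsg.Agent.Phan18.Comb
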