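import Cfsg.Agent.Phan18.Mon
import Cfsg.Agent.Phan18.Comb

/-!
Commuting elements of order three in `SU_n(2)`: a common orthonormal eigenbasis, exponents, traces.
-/

set_option autoImplicit false
set_option linter.unusedSectionVars false

namespace Cfsg.Agent.Phan18

open Cfsg.Agent.Unitary Cfsg.Agent.KSG55.Phan Matrix
open Cfsg.Agent.KSG55.SUStep (Orth orth_nil exists_norm_one_perp)

universe u

variable {F : Type u} [Field F] [Fintype F] {n : ℕ}

/-- A power of `w` with exponent modulo three. -/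
def pw (w : F) (z : ZMod 3) : F := w ^ z.val

/-- A diagonal element with given exponents. -/
def IsDiag (w : F) (x : SU n F 2) (a : Fin n → ZMod 3) : Prop :=
  ∀ i, x • (eI i : Fin n → F) = pw w (a i) • eI i

variable {w : F} (hw : w ^ 3 = 1) (h1 : w ≠ 1)

include hw

theorem pw_zero : pw w 0 = 1 := by simp [pw]

theorem pw_one : pw w 1 = w := by simp [pw, ZMod.val_one]

theorem pw_add (a b : ZMod 3) : pw w (a + b) = pw w a * pw w b := by
  rw [pw, pw, pw, ← pow_add, ZMod.val_add]
  conv_rhs => rw [← Nat.mod_add_div (a.val + b.val) 3, pow_add, pow_mul, hw, one_pow, mul_one]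

theorem pw_ne_zero (a : ZMod 3) : pw w a ≠ 0 := pow_ne_zero _ fun e => by simp [e] at hw

theorem pw_cube (a : ZMod 3) : pw w a ^ 3 = 1 := by
  rw [pw, ← pow_mul, mul_comm, pow_mul, hw, one_pow]

theorem pw_neg (a : ZMod 3) : pw w (-a) = (pw w a)⁻¹ :=
  eq_inv_of_mul_eq_one_left (by rw [← pw_add hw, neg_add_cancel, pw_zero hw])

include h1

theorem pw_eq_one {a : ZMod 3} (h : pw w a = 1) : a = 0 := by
  by_contra ha
  have : a = 1 ∨ a = 2 := (show ∀ a : ZMod 3, a ≠ 0 → a = 1 ∨ a = 2 by decide) a ha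
  rcases this with rfl | rfl
  · exact h1 (by rwa [pw_one hw] at h)
  · rw [show (2 : ZMod 3) = -1 from rfl, pw_neg hw, pw_one hw, inv_eq_one] at h
    exact h1 h

theorem pw_inj {a b : ZMod 3} (h : pw w a = pw w b) : a = b := by
  refine sub_eq_zero.1 (pw_eq_one hw h1 ?_)
  rw [sub_eq_add_neg, pw_add hw, pw_neg hw, h, mul_inv_cancel₀ (pw_ne_zero hw b)]

variable (hF : Fintype.card F = 2 ^ 2)

include hF

theorem exists_pw {x : F} (hx : x ≠ 0) : ∃ a, x = pw w a := by
  rcases elt_cases hF hw h1 x with h | h | h | h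
  · exact absurd h hx
  · exact ⟨0, by rw [pw_zero hw, h]⟩
  · exact ⟨1, by rw [pw_one hw, h]⟩
  · exact ⟨1 + 1, by rw [pw_add hw, pw_one hw, h, pow_two]⟩

/-- A truth value in the field. -/
def bf (b : Bool) : F := if b then 1 else 0

theorem bf_xor (x y : Bool) : (bf (xor x y) : F) = bf x + bf y := by
  cases x <;> cases y <;> simp [bf, one_add_one_eq_two, two_zero hF]

theorem pw_split (z : ZMod 3) : pw w z = (1 + bf (decide (z = 0))) * w + (1 + bf (decide (z = 1))) := by
  have h0 := omega_rel hF hw h1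
  have h2 := two_zero hF
  rcases (show ∀ a : ZMod 3, a = 0 ∨ a = 1 ∨ a = 1 + 1 by decide) z with rfl | rfl | rfl
  · rw [pw_zero hw]; simp [bf]; exact Or.inl (by linear_combination h2)
  · rw [pw_one hw]; simp [bf]; linear_combination h2
  · rw [pw_add hw, pw_one hw]
    simp [bf, show ((1 : ZMod 3) + 1 ≠ 0) by decide]
    linear_combination h0 - (w + 1) * h2

theorem sum_pw (v : Fin 4 → ZMod 3) :
    ∑ i, pw w (v i) = bf (Comb.tau v).1 + bf (Comb.tau v).2 * w := by
  rw [Fin.sum_univ_four, Comb.tau, bf_xor hw h1 hF, bf_xor hw h1 hF, bf_xor hw h1 hF, bf_xor hw h1 hF,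
    bf_xor hw h1 hF, bf_xor hw h1 hF, pw_split hw h1 hF, pw_split hw h1 hF, pw_split hw h1 hF, pw_split hw h1 hF]
  linear_combination (2 * w + 2) * two_zero hF

theorem tau_eq_of_sum {u v : Fin 4 → ZMod 3} (h : ∑ i, pw w (u i) = ∑ i, pw w (v i)) :
    Comb.tau u = Comb.tau v := by
  rw [sum_pw hw h1 hF, sum_pw hw h1 hF] at h
  have hw0 : w ≠ 0 := fun e => by simp [e] at hw
  have h2 : 1 + w ≠ 0 := fun e => h1 (by linear_combination e - two_zero hF)
  generalize Comb.tau u = p at h
  generalize Comb.tau v = r at h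
  obtain ⟨p1, p2⟩ := p
  obtain ⟨r1, r2⟩ := r
  cases p1 <;> cases p2 <;> cases r1 <;> cases r2 <;> simp [bf] at h <;> simp <;>
    first
      | exact hw0 h | exact hw0 h.symm | exact h2 h | exact h2 h.symm | exact h1 h | exact h1 h.symm
      | exact h2 (by linear_combination h) | exact h1 (by linear_combination h)

/-! ### Diagonal elements -/

theorem IsDiag.mul {x y : SU n F 2} {a b : Fin n → ZMod 3} (hx : IsDiag w x a) (hy : IsDiag w y b) :
    IsDiag w (x * y) (a + b) := fun i => by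
  rw [mul_smul, hy, lineSmul, hx, smul_smul, Pi.add_apply, pw_add hw, mul_comm]

theorem IsDiag.inv {x : SU n F 2} {a : Fin n → ZMod 3} (hx : IsDiag w x a) : IsDiag w x⁻¹ (-a) := fun i => by
  rw [inv_smul_eq_iff, lineSmul, hx, smul_smul, Pi.neg_apply, pw_neg hw, inv_mul_cancel₀ (pw_ne_zero hw _),
    one_smul]

theorem IsDiag.unique {x : SU n F 2} {a b : Fin n → ZMod 3} (hx : IsDiag w x a) (hx' : IsDiag w x b) : a = b :=
  funext fun i => pw_inj hw h1 (by
    have := congrFun ((hx i).symm.trans (hx' i)) i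
    simpa [eI] using this)

theorem IsDiag.ext {x y : SU n F 2} {a : Fin n → ZMod 3} (hx : IsDiag w x a) (hy : IsDiag w y a) : x = y :=
  ext_cols hF fun i => by rw [hx, hy]

theorem isDiag_one : IsDiag w (1 : SU n F 2) 0 := fun i => by
  rw [one_smul, Pi.zero_apply, pw_zero hw, one_smul]

theorem IsDiag.ne_zero {x : SU n F 2} {a : Fin n → ZMod 3} (hx : IsDiag w x a) (h : x ≠ 1) : a ≠ 0 := fun e => by
  subst e; exact h (hx.ext hw h1 hF (isDiag_one hw h1 hF))

theorem IsDiag.mat_eq {x : SU n F 2} {a : Fin n → ZMod 3} (hx : IsDiag w x a) :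
    mat x = Matrix.diagonal fun i => pw w (a i) := by
  ext i j
  rw [← smul_eI_apply hF, hx]
  by_cases e : i = j
  · subst e; simp [eI]
  · simp [eI, e]

theorem IsDiag.sum_zero {x : SU 4 F 2} {a : Fin 4 → ZMod 3} (hx : IsDiag w x a) : a 0 + a 1 + a 2 + a 3 = 0 := by
  refine pw_eq_one hw h1 ?_
  have hd : (mat x).det = 1 := x.1.2
  rw [hx.mat_eq hw h1 hF, Matrix.det_diagonal, Fin.prod_univ_four] at hd
  rw [pw_add hw, pw_add hw, pw_add hw]
  exact hd

theorem tau_conj {x y t : SU 4 F 2} {a b : Fin 4 → ZMod 3} (hx : IsDiag w x a) (hy : IsDiag w y b)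
    (h : t * x * t⁻¹ = y) : Comb.tau a = Comb.tau b := by
  refine tau_eq_of_sum hw h1 hF ?_
  have e : ∀ {z : SU 4 F 2} {c : Fin 4 → ZMod 3}, IsDiag w z c → (mat z).trace = ∑ i, pw w (c i) := fun hz => by
    rw [hz.mat_eq hw h1 hF, Matrix.trace_diagonal]
  rw [← e hx, ← e hy, ← h]
  show (mat x).trace = (mat t * mat x * mat t⁻¹).trace
  rw [Matrix.trace_mul_cycle, show mat t⁻¹ * mat t = mat (t⁻¹ * t) from rfl, inv_mul_cancel,
    show mat (1 : SU 4 F 2) = 1 from rfl, Matrix.one_mul]

theorem row_condition {x y t : SU n F 2} {a c : Fin n → ZMod 3} (hx : IsDiag w x a) (hy : IsDiag w y c)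
    (hinv : t * x * t⁻¹ = x⁻¹) (hcomm : t * y = y * t) (i : Fin n) : ∃ j, a j = -a i ∧ c j = c i := by
  obtain ⟨j, hj⟩ : ∃ j, mat t i j ≠ 0 := by
    by_contra hn
    push Not at hn
    have hd : (mat t).det = 1 := t.1.2
    rw [Matrix.det_eq_zero_of_row_eq_zero i hn] at hd
    exact zero_ne_one hd
  have e1 : mat t * mat x = mat x⁻¹ * mat t := by
    have : t * x = x⁻¹ * t := by rw [← hinv]; group
    exact congrArg mat this
  have e2 : mat t * mat y = mat y * mat t := congrArg mat hcomm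
  rw [hx.mat_eq hw h1 hF, (hx.inv hw h1 hF).mat_eq hw h1 hF] at e1
  rw [hy.mat_eq hw h1 hF] at e2
  have f1 := congrFun (congrFun e1 i) j
  have f2 := congrFun (congrFun e2 i) j
  rw [Matrix.mul_diagonal, Matrix.diagonal_mul, mul_comm] at f1 f2
  exact ⟨j, pw_inj hw h1 (mul_right_cancel₀ hj f1), pw_inj hw h1 (mul_right_cancel₀ hj f2)⟩

/-! ### Common eigenbases -/

/-- An orthonormal-refinement step. -/
theorem refine_eigen {x : SU n F 2} (hx : ∀ v : Fin n → F, x • x • x • v = v) (Q : Submodule F (Fin n → F))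
    (hQ : ∀ u ∈ Q, x • u ∈ Q) {v : Fin n → F} (hv : v ∈ Q) (hvv : herm 2 v v = 1) :
    ∃ u ∈ Q, herm 2 u u = 1 ∧ ∃ a, x • u = pw w a • u := by
  have h0 := omega_rel hF hw h1
  have h2 := two_zero hF
  set v1 := x • v with hv1
  set v2 := x • v1 with hv2
  have e3 : x • v2 = v := hx v
  let P : ZMod 3 → (Fin n → F) := fun a => v + pw w (-a) • v1 + pw w (-a + -a) • v2
  have hP : ∀ a, x • P a = pw w a • P a := fun a => by
    have c1 : pw w a * pw w (-a) = 1 := by rw [← pw_add hw, add_neg_cancel, pw_zero hw]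
    have c2 : pw w a * pw w (-a + -a) = pw w (-a) := by rw [← pw_add hw, add_neg_cancel_left]
    have c3 : pw w a = pw w (-a + -a) := by
      rw [show (-a + -a) = a from (show ∀ a : ZMod 3, -a + -a = a by decide) a]
    show x • (v + pw w (-a) • v1 + pw w (-a + -a) • v2) = _
    rw [smul_add, smul_add, lineSmul, lineSmul, e3, ← hv1, ← hv2]
    simp only [P, smul_add, smul_smul, c1, c2, one_smul]
    rw [c3]
    abel
  have hPQ : ∀ a, P a ∈ Q := fun a =>
    Q.add_mem (Q.add_mem hv (Q.smul_mem _ (hQ v hv))) (Q.smul_mem _ (hQ _ (hQ v hv)))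
  have hsum : P 0 + P 1 + P (1 + 1) = v := by
    have e : (1 : F) + w + w ^ 2 = 0 := by linear_combination h0
    simp only [P, show (-(0 : ZMod 3)) = 0 by decide, show (0 : ZMod 3) + 0 = 0 by decide,
      show (-(1 : ZMod 3)) = 1 + 1 by decide, show (1 : ZMod 3) + 1 + (1 + 1) = 1 by decide,
      show (-((1 : ZMod 3) + 1)) = 1 by decide, pw_zero hw, pw_add hw, pw_one hw, one_smul]
    funext i
    simp only [Pi.add_apply, Pi.smul_apply, smul_eq_mul]
    linear_combination (v1 i + v2 i) * e + v i * h2 + v2 i * w * hw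
  have horth : ∀ a b, a ≠ b → herm 2 (P a) (P b) = 0 := fun a b hab => by
    have := herm_smul_SU x (P a) (P b)
    rw [hP, hP, herm_smul_left, herm_smul_right hF] at this
    by_contra hne
    refine hab (pw_inj hw h1 ?_)
    have h' : pw w a * pw w b ^ 2 = 1 :=
      mul_right_cancel₀ hne (by rw [one_mul, mul_assoc]; exact this)
    linear_combination pw w b * h' - pw w a * pw_cube hw b
  obtain ⟨a, ha⟩ : ∃ a, herm 2 (P a) (P a) ≠ 0 := by
    by_contra hn
    push Not at hn
    rw [← hsum] at hvv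
    simp only [herm_add_left, herm_add_right hF, hn, horth _ _ (show (0 : ZMod 3) ≠ 1 by decide),
      horth _ _ (show (0 : ZMod 3) ≠ 1 + 1 by decide), horth _ _ (show (1 : ZMod 3) ≠ 1 + 1 by decide),
      horth _ _ (show (1 : ZMod 3) ≠ 0 by decide), horth _ _ (show (1 : ZMod 3) + 1 ≠ 0 by decide),
      horth _ _ (show (1 : ZMod 3) + 1 ≠ 1 by decide), add_zero] at hvv
    exact zero_ne_one hvv
  refine ⟨P a, hPQ a, ?_, a, hP a⟩
  have hf := herm_self_fixed hF (P a)
  exact mul_left_cancel₀ ha (by rw [mul_one, ← pow_two]; exact hf)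

/-- A common eigenbasis of three commuting elements of order three. -/
theorem exists_eigen {x y z : SU n F 2} (hx : ∀ v : Fin n → F, x • x • x • v = v)
    (hy : ∀ v : Fin n → F, y • y • y • v = v) (hz : ∀ v : Fin n → F, z • z • z • v = v)
    (hxy : x * y = y * x) (hxz : x * z = z * x) (hyz : y * z = z * y) :
    ∀ k, k ≤ n → ∃ p : Fin k → Fin n → F, Orth 2 p ∧ (∀ i, herm 2 (p i) (p i) = 1) ∧
      ∃ a b c : Fin k → ZMod 3, ∀ i, x • p i = pw w (a i) • p i ∧ y • p i = pw w (b i) • p i ∧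
        z • p i = pw w (c i) • p i := by
  intro k
  induction k with
  | zero => exact fun _ => ⟨![], orth_nil hF, fun i => i.elim0, ![], ![], ![], fun i => i.elim0⟩
  | succ k ih =>
  intro hk
  obtain ⟨p, hp, hp1, a, b, c, he⟩ := ih (by omega)
  obtain ⟨v, hv, hvp⟩ := exists_norm_one_perp hF hp (by omega)
  let Q0 : Submodule F (Fin n → F) :=
    { carrier := {u | ∀ i, herm 2 u (p i) = 0}
      zero_mem' := fun i => by rw [← zero_smul F (0 : Fin n → F), herm_smul_left, zero_mul]
      add_mem' := fun {u u'} hu hu' i => by rw [herm_add_left, hu i, hu' i, add_zero]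
      smul_mem' := fun r u hu i => by rw [herm_smul_left, hu i, mul_zero] }
  have hinv : ∀ {t : SU n F 2} {e : Fin k → ZMod 3}, (∀ i, t • p i = pw w (e i) • p i) →
      ∀ u ∈ Q0, t • u ∈ Q0 := fun {t e} ht u hu i => by
    have := herm_smul_SU t u (p i)
    rw [ht, herm_smul_right hF, hu i] at this
    exact (mul_eq_zero.1 this).resolve_left (pow_ne_zero _ (pw_ne_zero hw _))
  let eig : SU n F 2 → F → Submodule F (Fin n → F) := fun t r =>
    { carrier := {u | t • u = r • u}
      zero_mem' := by show t • (0 : Fin n → F) = _; rw [smul_zero, smul_zero]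
      add_mem' := fun {u u'} (hu : t • u = r • u) (hu' : t • u' = r • u') => by
        show t • (u + u') = _; rw [smul_add, smul_add, hu, hu']
      smul_mem' := fun s u (hu : t • u = r • u) => by
        show t • (s • u) = _; rw [lineSmul, hu, smul_smul, smul_smul, mul_comm] }
  have hcom : ∀ {t t' : SU n F 2} (r : F), t * t' = t' * t → ∀ u ∈ eig t r, t' • u ∈ eig t r :=
    fun {t t'} r e u (hu : t • u = r • u) => by
      show t • (t' • u) = r • (t' • u)
      rw [← mul_smul, e, mul_smul, hu, lineSmul]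
  obtain ⟨u1, hu1, hn1, a0, ha0⟩ := refine_eigen hw h1 hF hx Q0 (hinv fun i => (he i).1) hvp hv
  obtain ⟨u2, hu2, hn2, b0, hb0⟩ := refine_eigen hw h1 hF hy (Q0 ⊓ eig x (pw w a0))
    (fun u hu => ⟨hinv (fun i => (he i).2.1) u hu.1, hcom _ hxy u hu.2⟩) (v := u1) ⟨hu1, ha0⟩ hn1
  obtain ⟨u3, hu3, hn3, c0, hc0⟩ := refine_eigen hw h1 hF hz (Q0 ⊓ eig x (pw w a0) ⊓ eig y (pw w b0))
    (fun u hu => ⟨⟨hinv (fun i => (he i).2.2) u hu.1.1, hcom _ hxz u hu.1.2⟩, hcom _ hyz u hu.2⟩)
    (v := u2) ⟨hu2, hb0⟩ hn2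
  refine ⟨vecCons u3 p, hp.cons hF (by rw [hn3]; exact one_ne_zero) hu3.1.1, fun i => ?_, vecCons a0 a, vecCons b0 b,
    vecCons c0 c, fun i => ?_⟩
  · induction i using Fin.cases with
    | zero => simpa using hn3
    | succ i => simpa using hp1 i
  · induction i using Fin.cases with
    | zero => exact ⟨hu3.1.2, hu3.2, hc0⟩
    | succ i => simpa using he i

/-- Conjugation of `SU_n` into an orthonormal basis. -/
theorem exists_conj (p : Fin n → Fin n → F) (hp : Orth 2 p) (hp1 : ∀ i, herm 2 (p i) (p i) = 1) :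
    ∃ c : SU n F 2 ≃* SU n F 2, ∀ (y : SU n F 2) (i : Fin n) (r : F), y • p i = r • p i →
      c y • (eI i : Fin n → F) = r • eI i := by
  classical
  let f : (Fin n → F) →ₗ[F] (Fin n → F) :=
    { toFun := fun v => ∑ i, v i • p i
      map_add' := fun u v => by simp [add_smul, Finset.sum_add_distrib]
      map_smul' := fun r u => by simp [Finset.smul_sum, smul_smul] }
  have hiso : ∀ u v, herm 2 (f u) (f v) = herm 2 u v := fun u v => by
    show herm 2 (∑ i, u i • p i) (∑ j, v j • p j) = _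
    rw [herm_sum_left]
    simp only [herm_smul_left]
    show _ = ∑ i, u i * v i ^ 2
    refine Finset.sum_congr rfl fun i _ => ?_
    congr 1
    rw [herm_swap hF, herm_sum_left, Finset.sum_eq_single i]
    · rw [herm_smul_left, hp1, mul_one]
    · intro j _ hj; rw [herm_smul_left, hp.perp j i hj, mul_zero]
    · simp
  obtain ⟨g, -, hg⟩ := exists_fixGU_of_map hF (∅ : Finset (Fin n)) ⊤ f (fun i hi => absurd hi (by simp))
    (fun i hi => absurd hi (by simp)) (fun v _ hv => eq_zero_of_herm hF fun y => by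
      rw [← hiso, hv]; show herm 2 (0 : Fin n → F) _ = 0
      rw [← zero_smul F (0 : Fin n → F), herm_smul_left, zero_mul])
    (fun u _ v _ => hiso u v)
  have hmem : ∀ (k : GU n F 2) (y : SU n F 2), k * toGU y * k⁻¹ ∈ (toGU : SU n F 2 →* GU n F 2).range := fun k y => by
    have hy : detGU (toGU y : GU n F 2) = 1 := by
      have : toGU y ∈ (toGU : SU n F 2 →* GU n F 2).range := ⟨y, rfl⟩
      rwa [range_toGU] at this
    rw [range_toGU, MonoidHom.mem_ker, map_mul, map_mul, hy, mul_one, ← map_mul, mul_inv_cancel, map_one]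
  choose cv hcv using hmem g⁻¹
  have hcv' : ∀ y (v : Fin n → F), cv y • v = g⁻¹ • y • g • v := fun y v => by
    rw [← toGU_smul, hcv, mul_smul, mul_smul, inv_inv, toGU_smul]
  let c : SU n F 2 →* SU n F 2 := MonoidHom.mk' cv fun a b => eq_of_smul_eq_SU fun v => by
    rw [mul_smul, hcv', hcv', hcv', smul_inv_smul, mul_smul]
  have hinj : Function.Injective c := fun a b e => eq_of_smul_eq_SU fun v => by
    have := congrArg (fun z : SU n F 2 => g • z • g⁻¹ • v) e
    simp only [c, MonoidHom.mk'_apply, hcv', smul_inv_smul] at this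
    exact this
  refine ⟨MulEquiv.ofBijective c ((Finite.injective_iff_bijective).1 hinj), fun y i r hy => ?_⟩
  show cv y • _ = _
  have hge : g • (eI i : Fin n → F) = p i := by
    rw [hg _ Submodule.mem_top]
    show ∑ j, (eI i : Fin n → F) j • p j = _
    rw [Finset.sum_eq_single i (fun j _ hj => by simp [eI, hj]) (by simp)]
    simp [eI]
  rw [hcv', hge, hy, inv_smul_eq_iff, ← hge]
  exact (Matrix.mulVec_smul _ r (eI i : Fin n → F)).symm

end Cfsg.Agent.Phan18
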