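import Cfsg.Agent.KSG55.Phan.Coherent

/-!
`SU₃(2)` over the field with four elements: generation by the two blocks of size two and the conjugates of a
Fourier element, and rigidity of automorphisms fixing the blocks; generation of `SU_M(2)` by blocks of size three.
-/

set_option autoImplicit false
set_option linter.unusedSectionVars false

namespace Cfsg.Agent.Phan18

open Cfsg.Agent.Unitary Cfsg.Agent.KSG55.Phan Matrix
open Cfsg.Agent.KSG55.SUStep (Orth orth_nil exists_fixS_one exists_fixS_two exists_split)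

universe u

variable {F : Type u} [Field F] [Fintype F] (hF : Fintype.card F = 2 ^ 2)

include hF

theorem cube {x : F} (h : x ≠ 0) : x ^ 3 = 1 := by
  have := FiniteField.pow_card_sub_one_eq_one x h
  rwa [hF] at this

theorem two_zero : (2 : F) = 0 := by
  have h : ((Fintype.card F : ℕ) : F) = 0 := FiniteField.cast_card_eq_zero F
  rw [hF] at h
  push_cast at h
  have h4 : (2 : F) * 2 = 0 := by linear_combination h
  exact (mul_self_eq_zero.1 h4)

theorem neg_eq (x : F) : -x = x := by linear_combination -x * two_zero hF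

theorem exists_omega : ∃ w : F, w ^ 3 = 1 ∧ w ≠ 1 := by
  classical
  obtain ⟨w, hw, hn⟩ := exists_norm_avoid hF ({1} : Finset F) (by simp)
  exact ⟨w, hw, by simpa using hn⟩

theorem omega_rel {w : F} (hw : w ^ 3 = 1) (h1 : w ≠ 1) : w ^ 2 + w + 1 = 0 := by
  have : (w - 1) * (w ^ 2 + w + 1) = 0 := by linear_combination hw
  exact (mul_eq_zero.1 this).resolve_left (sub_ne_zero.2 h1)

theorem elt_cases {w : F} (hw : w ^ 3 = 1) (h1 : w ≠ 1) (x : F) : x = 0 ∨ x = 1 ∨ x = w ∨ x = w ^ 2 := by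
  by_cases hx : x = 0
  · exact Or.inl hx
  · right
    have h0 := omega_rel hF hw h1
    have : (x - 1) * ((x - w) * (x - w ^ 2)) = 0 := by
      linear_combination cube hF hx + (x * w - x ^ 2) * h0 - hw
    rcases mul_eq_zero.1 this with h | h
    · exact Or.inl (sub_eq_zero.1 h)
    · rcases mul_eq_zero.1 h with h | h
      · exact Or.inr (Or.inl (sub_eq_zero.1 h))
      · exact Or.inr (Or.inr (sub_eq_zero.1 h))

theorem smul_eI_apply {n : ℕ} (g : SU n F 2) (i j : Fin n) : (g • (eI j : Fin n → F)) i = mat g i j := by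
  show ((g.1 : Matrix (Fin n) (Fin n) F) *ᵥ Pi.single j 1) i = _
  rw [Matrix.mulVec_single_one]; rfl

/-- The swap in `SU₂`. -/
def W : SU 2 F 2 := mk2 0 1 (by simp) hF

theorem W_e0 : W hF • (eI 0 : Fin 2 → F) = eI 1 := by
  funext i
  rw [smul_eI_apply hF]
  fin_cases i <;> simp [W, mk2, mat, eI, neg_eq hF]

theorem W_e1 : W hF • (eI 1 : Fin 2 → F) = eI 0 := by
  funext i
  rw [smul_eI_apply hF]
  fin_cases i <;> simp [W, mk2, mat, eI]

theorem blW {b k : ℕ} (h : k + 2 ≤ b) :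
    bl b 2 k (W hF) • (eI ⟨k, by omega⟩ : Fin b → F) = eI ⟨k + 1, by omega⟩ ∧
      bl b 2 k (W hF) • (eI ⟨k + 1, by omega⟩ : Fin b → F) = eI ⟨k, by omega⟩ ∧
      ∀ j : Fin b, (j : ℕ) ≠ k → (j : ℕ) ≠ k + 1 → bl b 2 k (W hF) • (eI j : Fin b → F) = eI j := by
  have e0 : (⟨k, by omega⟩ : Fin b) = shift k h (0 : Fin 2) := Fin.ext (by simp [shift_val])
  have e1 : (⟨k + 1, by omega⟩ : Fin b) = shift k h (1 : Fin 2) := Fin.ext (by simp [shift_val])
  refine ⟨?_, ?_, fun j h0 h1 => bl_fix hF h _ (by omega)⟩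
  · have := bl_smul_eI h (A := W hF) (i := 0) (j := 1) (t := (1 : F)) (by rw [one_smul, W_e0])
    rw [one_smul] at this
    rw [e0, e1]; exact this
  · have := bl_smul_eI h (A := W hF) (i := 1) (j := 0) (t := (1 : F)) (by rw [one_smul, W_e1])
    rw [one_smul] at this
    rw [e0, e1]; exact this

theorem norm_one_of_ne {x : F} (h : x ≠ 0) : x ^ (2 + 1) = 1 := cube hF h

/-- A scalar on a line of norm one can be realised in a block of size two. -/
theorem exists_dg2 {b k : ℕ} (h : k + 2 ≤ b) {c : F} (hc : c ≠ 0) :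
    ∃ A : SU 2 F 2, bl b 2 k A • (eI ⟨k, by omega⟩ : Fin b → F) = c • eI ⟨k, by omega⟩ ∧
      bl b 2 k A • (eI ⟨k + 1, by omega⟩ : Fin b → F) = c⁻¹ • eI ⟨k + 1, by omega⟩ := by
  have hd : ∀ i, (![c, c⁻¹] : Fin 2 → F) i ^ (2 + 1) = 1 := fun i => by
    fin_cases i <;> simp [cube hF hc]
  refine ⟨dg ![c, c⁻¹] hd (by simp [Fin.prod_univ_two, hc]), ?_, ?_⟩
  · have := bl_smul_eI h (A := dg ![c, c⁻¹] hd (by simp [Fin.prod_univ_two, hc])) (i := 0) (j := 0) (t := c)
      (by rw [dg_smul_eI]; rfl)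
    rw [show (⟨k, by omega⟩ : Fin b) = shift k h (0 : Fin 2) from Fin.ext (by simp [shift_val])]
    exact this
  · have := bl_smul_eI h (A := dg ![c, c⁻¹] hd (by simp [Fin.prod_univ_two, hc])) (i := 1) (j := 1) (t := c⁻¹)
      (by rw [dg_smul_eI]; rfl)
    rw [show (⟨k + 1, by omega⟩ : Fin b) = shift k h (1 : Fin 2) from Fin.ext (by simp [shift_val])]
    exact this

/-! ### The Fourier element -/

/-- The Fourier matrix. -/
def fourier {w : F} (hw : w ^ 3 = 1) (h1 : w ≠ 1) : SU 3 F 2 :=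
  ⟨⟨!![1, 1, 1; 1, w, w ^ 2; 1, w ^ 2, w], by
    rw [Matrix.det_fin_three]
    simp
    linear_combination -w * hw + 3 * omega_rel hF hw h1 + (-3 * w - 2) * two_zero hF⟩, fun u v => by
    show herm 2 (!![1, 1, 1; 1, w, w ^ 2; 1, w ^ 2, w] *ᵥ u) (!![1, 1, 1; 1, w, w ^ 2; 1, w ^ 2, w] *ᵥ v) = herm 2 u v
    have h2 := two_zero hF
    have h0 := omega_rel hF hw h1
    simp [herm, hermForm, Matrix.mulVec, dotProduct, Fin.sum_univ_three]
    grind⟩

variable {w : F} (hw : w ^ 3 = 1) (h1 : w ≠ 1)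

theorem mat_fourier : mat (fourier hF hw h1) = !![1, 1, 1; 1, w, w ^ 2; 1, w ^ 2, w] := rfl

theorem fourier_e0 : fourier hF hw h1 • (eI 0 : Fin 3 → F) = fun _ => 1 := by
  funext i
  rw [smul_eI_apply hF, mat_fourier]
  fin_cases i <;> simp

theorem fourier_four : fourier hF hw h1 ^ 4 = 1 := by
  refine Subtype.ext (Subtype.ext ?_)
  have h2 := two_zero hF
  have h0 := omega_rel hF hw h1
  have hsq : (!![1, 1, 1; 1, w, w ^ 2; 1, w ^ 2, w] : Matrix (Fin 3) (Fin 3) F) *
      !![1, 1, 1; 1, w, w ^ 2; 1, w ^ 2, w] = !![1, 0, 0; 0, 0, 1; 0, 1, 0] := by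
    ext i j
    fin_cases i <;> fin_cases j <;> simp [Matrix.mul_apply, Fin.sum_univ_three] <;> grind
  show mat (fourier hF hw h1) ^ 4 = 1
  rw [mat_fourier, show 4 = 2 + 2 from rfl, pow_add, pow_two, hsq]
  ext i j
  fin_cases i <;> fin_cases j <;> simp [Matrix.mul_apply, Fin.sum_univ_three]

/-- The cyclic permutation. -/
def cyc : SU 3 F 2 := bl 3 2 1 (W hF) * bl 3 2 0 (W hF)

theorem cyc_e : cyc hF • (eI 0 : Fin 3 → F) = eI 2 ∧ cyc hF • (eI 1 : Fin 3 → F) = eI 0 ∧
    cyc hF • (eI 2 : Fin 3 → F) = eI 1 := by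
  obtain ⟨a, b, c⟩ := blW hF (b := 3) (k := 0) (by norm_num)
  obtain ⟨a', b', c'⟩ := blW hF (b := 3) (k := 1) (by norm_num)
  refine ⟨?_, ?_, ?_⟩
  · rw [cyc, mul_smul, show bl 3 2 0 (W hF) • (eI 0 : Fin 3 → F) = eI 1 from a]
    exact a'
  · rw [cyc, mul_smul, show bl 3 2 0 (W hF) • (eI 1 : Fin 3 → F) = eI 0 from b]
    exact c' 0 (by simp) (by simp)
  · rw [cyc, mul_smul, c 2 (by simp) (by simp)]
    exact b'

omit hF in
theorem norm_dd (hw : w ^ 3 = 1) : ∀ i, (![1, w, w ^ 2] : Fin 3 → F) i ^ (2 + 1) = 1 := fun i => by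
  fin_cases i <;> simp [hw]
  rw [← pow_mul, mul_comm, pow_mul, hw, one_pow]

omit hF in
theorem prod_dd (hw : w ^ 3 = 1) : ∏ i, (![1, w, w ^ 2] : Fin 3 → F) i = 1 := by
  simp [Fin.prod_univ_three]; linear_combination hw

/-- The diagonal element of distinct entries. -/
def dd : SU 3 F 2 := dg ![1, w, w ^ 2] (norm_dd hw) (prod_dd hw)

theorem ext_cols {n : ℕ} {g h : SU n F 2} (e : ∀ i, g • (eI i : Fin n → F) = h • eI i) : g = h :=
  Subtype.ext (Subtype.ext (by
    ext i j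
    show mat g i j = mat h i j
    rw [← smul_eI_apply hF, ← smul_eI_apply hF, e j]))

theorem dd_mem : dd hw ∈ (bl 3 2 1 : SU 2 F 2 →* SU 3 F 2).range :=
  exists_bl hF (by norm_num) fun j hj => by
    obtain rfl : j = 0 := by omega
    rw [dd, dg_smul_eI]; simp

theorem fourier_dd : fourier hF hw h1 * dd hw = cyc hF * fourier hF hw h1 := by
  have h0 := omega_rel hF hw h1
  obtain ⟨c0, c1, c2⟩ := cyc_e hF
  have key : ∀ v : Fin 3 → F, cyc hF • v = ![v 1, v 2, v 0] := fun v => by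
    have hv : v = v 0 • eI 0 + v 1 • eI 1 + v 2 • (eI 2 : Fin 3 → F) := by
      funext i; fin_cases i <;> simp [eI]
    conv_lhs => rw [hv]
    show mat (cyc hF) *ᵥ _ = _
    rw [Matrix.mulVec_add, Matrix.mulVec_add, Matrix.mulVec_smul, Matrix.mulVec_smul, Matrix.mulVec_smul,
      show mat (cyc hF) *ᵥ eI 0 = _ from c0, show mat (cyc hF) *ᵥ eI 1 = _ from c1,
      show mat (cyc hF) *ᵥ eI 2 = _ from c2]
    funext i; fin_cases i <;> simp [eI]
  refine ext_cols hF fun j => ?_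
  rw [mul_smul, mul_smul, key, dd, dg_smul_eI, lineSmul]
  funext i
  rw [Pi.smul_apply, smul_eI_apply hF, smul_eI_apply hF, smul_eI_apply hF, smul_eI_apply hF, mat_fourier, smul_eq_mul]
  fin_cases i <;> fin_cases j <;> simp <;> grind

theorem fourier_cyc : fourier hF hw h1 * cyc hF = (dd hw)⁻¹ * fourier hF hw h1 := by
  have h0 := omega_rel hF hw h1
  obtain ⟨c0, c1, c2⟩ := cyc_e hF
  rw [eq_inv_mul_iff_mul_eq]
  refine ext_cols hF fun j => ?_
  rw [mul_smul, mul_smul]
  funext i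
  fin_cases j
  · rw [show cyc hF • (eI (⟨0, by decide⟩ : Fin 3) : Fin 3 → F) = eI 2 from c0, dd, dg_smul]
    simp only [smul_eI_apply hF, mat_fourier]
    fin_cases i <;> simp <;> grind
  · rw [show cyc hF • (eI (⟨1, by decide⟩ : Fin 3) : Fin 3 → F) = eI 0 from c1, dd, dg_smul]
    simp only [smul_eI_apply hF, mat_fourier]
    fin_cases i <;> simp <;> grind
  · rw [show cyc hF • (eI (⟨2, by decide⟩ : Fin 3) : Fin 3 → F) = eI 1 from c2, dd, dg_smul]
    simp only [smul_eI_apply hF, mat_fourier]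
    fin_cases i <;> simp <;> grind

/-- `SU₃` is generated by the two blocks and the conjugates of the Fourier element. -/
theorem su3_top (P : Subgroup (SU 3 F 2)) (h0 : ∀ X, bl 3 2 0 X ∈ P) (h1' : ∀ X, bl 3 2 1 X ∈ P)
    (hf : ∀ d hd, twist (RingEquiv.refl F) d hd (fourier hF hw h1) ∈ P) : P = ⊤ := by
  refine eq_top_iff.2 fun g _ => ?_
  obtain ⟨v, hv⟩ : ∃ v, v = g • (eI 0 : Fin 3 → F) := ⟨_, rfl⟩
  have hn : herm 2 v v = 1 := by rw [hv, herm_smul_SU, herm_eI_eI hF, if_pos rfl]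
  suffices hx : ∃ x ∈ P, x • (eI 0 : Fin 3 → F) = v by
    obtain ⟨x, hx, hxe⟩ := hx
    obtain ⟨A, hA⟩ := exists_bl hF (k := 1) (a := 2) (b := 3) (by norm_num) (g := x⁻¹ * g) fun j hj => by
      obtain rfl : j = 0 := by omega
      rw [mul_smul, ← hv, ← hxe, inv_smul_smul]
    rw [show g = x * (x⁻¹ * g) by group, ← hA]
    exact mul_mem hx (h1' A)
  rw [herm, hermForm, Fin.sum_univ_three] at hn
  have hc : ∀ x : F, x ≠ 0 → x * x ^ 2 = 1 := fun x hx => by rw [← pow_succ']; exact cube hF hx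
  obtain ⟨W0, W0', -⟩ := blW hF (b := 3) (k := 0) (by norm_num)
  obtain ⟨W1, -, -⟩ := blW hF (b := 3) (k := 1) (by norm_num)
  by_cases a0 : v 0 = 0 <;> by_cases a1 : v 1 = 0 <;> by_cases a2 : v 2 = 0
  · simp [a0, a1, a2] at hn
  · obtain ⟨A, -, hA'⟩ := exists_dg2 hF (b := 3) (k := 1) (by norm_num) (c := (v 2)⁻¹) (inv_ne_zero a2)
    refine ⟨bl 3 2 1 A * (bl 3 2 1 (W hF) * bl 3 2 0 (W hF)),
      mul_mem (h1' _) (mul_mem (h1' _) (h0 _)), ?_⟩
    rw [mul_smul, mul_smul, show bl 3 2 0 (W hF) • (eI 0 : Fin 3 → F) = eI 1 from W0,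
      show bl 3 2 1 (W hF) • (eI 1 : Fin 3 → F) = eI 2 from W1,
      show bl 3 2 1 A • (eI 2 : Fin 3 → F) = _ from hA', inv_inv]
    funext i; fin_cases i <;> simp [eI, a0, a1]
  · obtain ⟨A, -, hA'⟩ := exists_dg2 hF (b := 3) (k := 0) (by norm_num) (c := (v 1)⁻¹) (inv_ne_zero a1)
    refine ⟨bl 3 2 0 A * bl 3 2 0 (W hF), mul_mem (h0 _) (h0 _), ?_⟩
    rw [mul_smul, show bl 3 2 0 (W hF) • (eI 0 : Fin 3 → F) = eI 1 from W0,
      show bl 3 2 0 A • (eI 1 : Fin 3 → F) = _ from hA', inv_inv]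
    funext i; fin_cases i <;> simp [eI, a0, a2]
  · simp [a0, hc _ a1, hc _ a2, one_add_one_eq_two, two_zero hF] at hn
  · obtain ⟨A, hA, -⟩ := exists_dg2 hF (b := 3) (k := 0) (by norm_num) (c := v 0) a0
    refine ⟨bl 3 2 0 A, h0 _, ?_⟩
    rw [show bl 3 2 0 A • (eI 0 : Fin 3 → F) = _ from hA]
    funext i; fin_cases i <;> simp [eI, a1, a2]
  · simp [a1, hc _ a0, hc _ a2, one_add_one_eq_two, two_zero hF] at hn
  · simp [a2, hc _ a0, hc _ a1, one_add_one_eq_two, two_zero hF] at hn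
  · obtain ⟨A, hA, -⟩ := exists_dg2 hF (b := 3) (k := 0) (by norm_num) (c := v 0) a0
    have hd : ∀ i, v i ^ (2 + 1) = 1 := fun i => by fin_cases i <;> exact cube hF (by assumption)
    refine ⟨twist (RingEquiv.refl F) v hd (fourier hF hw h1) * bl 3 2 0 A, mul_mem (hf v hd) (h0 _), ?_⟩
    rw [mul_smul, show bl 3 2 0 A • (eI 0 : Fin 3 → F) = v 0 • eI 0 from hA,
      show v 0 • (eI 0 : Fin 3 → F) = tvec (RingEquiv.refl F) v (eI 0) from funext fun i => by
        fin_cases i <;> simp [tvec, eI],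
      twist_tvec, fourier_e0]
    funext i; simp [tvec]

/-- A homomorphism fixing both blocks pointwise is the identity. -/
theorem rigid (α : SU 3 F 2 →* SU 3 F 2) (h0 : ∀ X, α (bl 3 2 0 X) = bl 3 2 0 X)
    (h1' : ∀ X, α (bl 3 2 1 X) = bl 3 2 1 X) (g : SU 3 F 2) : α g = g := by
  obtain ⟨w, hw, h1⟩ := exists_omega hF
  suffices h : α.eqLocus (MonoidHom.id _) = ⊤ from show g ∈ α.eqLocus (MonoidHom.id _) from h ▸ Subgroup.mem_top g
  refine su3_top hF hw h1 _ h0 h1' fun d hd => ?_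
  set tw := twist (RingEquiv.refl F) d hd with htw
  have hone : ∀ i, (fun i : Fin 2 => d (shift 1 (show 1 + 2 ≤ 3 by norm_num) i)) i ^ (2 + 1) = 1 := fun i => hd _
  have hone' : ∀ i, (fun i : Fin 2 => d (shift 0 (show 0 + 2 ≤ 3 by norm_num) i)) i ^ (2 + 1) = 1 := fun i => hd _
  have hP : α (tw (cyc hF)) = tw (cyc hF) := by
    rw [cyc, map_mul tw, htw, twist_bl (k := 1) (by norm_num) _ _ hone (fun i => rfl),
      twist_bl (k := 0) (by norm_num) _ _ hone' (fun i => rfl), map_mul, h0, h1']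
  obtain ⟨A, hA⟩ := dd_mem hF hw
  have hD : α (tw (dd hw)) = tw (dd hw) := by
    rw [← hA, htw, twist_bl (k := 1) (by norm_num) _ _ hone (fun i => rfl), h1']
  set h := tw (fourier hF hw h1) with hh
  set z := h⁻¹ * α h with hz
  have e1 : h * tw (dd hw) = tw (cyc hF) * h := by rw [hh, ← map_mul, ← map_mul, fourier_dd hF hw h1]
  have e2 : h * tw (cyc hF) = (tw (dd hw))⁻¹ * h := by
    rw [hh, ← map_inv, ← map_mul, ← map_mul, fourier_cyc hF hw h1]
  have f1 : α h * tw (dd hw) = tw (cyc hF) * α h := by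
    have := congrArg α e1
    rwa [map_mul, map_mul, hD, hP] at this
  have f2 : α h * tw (cyc hF) = (tw (dd hw))⁻¹ * α h := by
    have := congrArg α e2
    rwa [map_mul, map_mul, map_inv, hD, hP] at this
  have c1 : z * tw (dd hw) = tw (dd hw) * z := by
    rw [hz, mul_assoc, f1, show tw (cyc hF) = h * tw (dd hw) * h⁻¹ by rw [e1]; group]
    group
  have c2 : z * tw (cyc hF) = tw (cyc hF) * z := by
    rw [hz, mul_assoc, f2, show (tw (dd hw))⁻¹ = h * tw (cyc hF) * h⁻¹ by rw [e2]; group]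
    group
  have hdi : ∀ i, d i ≠ 0 := fun i => ne_zero_of_norm (hd i)
  have hse : ∀ i, tvec (RingEquiv.refl F) d (eI i) = d i • (eI i : Fin 3 → F) := fun i => funext fun j => by
    by_cases e : j = i
    · subst e; simp [tvec, eI]
    · simp [tvec, eI, e]
  have hddj : ∀ i, tw (dd hw) • (eI i : Fin 3 → F) = (![1, w, w ^ 2] : Fin 3 → F) i • eI i := fun i => by
    have := twist_tvec (RingEquiv.refl F) hd (dd hw) (eI i)
    rw [hse, lineSmul, dd, dg_smul_eI] at this
    rw [eq_comm, ← inv_smul_eq_iff₀ (hdi i)] at this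
    rw [htw, dd, ← this]
    funext j
    by_cases e : j = i
    · subst e; simp [tvec, eI]; rw [inv_mul_cancel_left₀ (hdi j)]
    · simp [tvec, eI, e]
  have hw2 : w ^ 2 ≠ 1 := fun e => h1 (by rw [pow_succ, e, one_mul] at hw; exact hw)
  have hw0 : w ≠ 0 := fun e => by simp [e] at hw
  have hwne : w ^ 2 ≠ w := fun e => h1 (mul_left_cancel₀ hw0 (by rw [← pow_two, mul_one]; exact e))
  have hinj : Function.Injective (![1, w, w ^ 2] : Fin 3 → F) := by
    intro i j e
    fin_cases i <;> fin_cases j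
    all_goals first
      | rfl
      | exact absurd e.symm h1
      | exact absurd e h1
      | exact absurd e hwne
      | exact absurd e.symm hwne
      | exact absurd e hw2
      | exact absurd e.symm hw2
  have hdia : ∀ i j, i ≠ j → (z • (eI i : Fin 3 → F)) j = 0 := fun i j hij => by
    have e : tw (dd hw) • (z • (eI i : Fin 3 → F)) = (![1, w, w ^ 2] : Fin 3 → F) i • z • eI i := by
      rw [← mul_smul, ← c1, mul_smul, hddj, lineSmul]
    have hcol : ∀ u : Fin 3 → F, (tw (dd hw) • u) j = (![1, w, w ^ 2] : Fin 3 → F) j * u j := fun u => by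
      show (mat (tw (dd hw)) *ᵥ u) j = _
      rw [Matrix.mulVec, dotProduct, Finset.sum_eq_single j]
      · rw [← smul_eI_apply hF, hddj]; simp [eI]
      · intro l _ hl
        rw [← smul_eI_apply hF, hddj]; simp [eI, Ne.symm hl]
      · simp
    have := congrFun e j
    rw [hcol, Pi.smul_apply, smul_eq_mul] at this
    by_contra hne
    exact hij (hinj (mul_right_cancel₀ hne this)).symm
  have hzc : ∀ i, z • (eI i : Fin 3 → F) = (z • (eI i : Fin 3 → F)) i • eI i := fun i => funext fun j => by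
    by_cases e : j = i
    · subst e; simp [eI]
    · rw [Pi.smul_apply, hdia i j (Ne.symm e), show (eI i : Fin 3 → F) j = 0 by simp [eI, e], smul_zero]
  set r := fun i => (z • (eI i : Fin 3 → F)) i with hr
  have hmove : ∀ i j, cyc hF • (eI i : Fin 3 → F) = eI j → r i = r j := fun i j hij => by
    have h3 := twist_tvec (RingEquiv.refl F) hd (cyc hF) (eI i)
    rw [hse, hij, hse, lineSmul] at h3
    have h4 : tw (cyc hF) • (eI i : Fin 3 → F) = ((d i)⁻¹ * d j) • eI j := by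
      rw [mul_smul, ← h3, smul_smul, inv_mul_cancel₀ (hdi i), one_smul]
    have h5 : z • (tw (cyc hF) • (eI i : Fin 3 → F)) = tw (cyc hF) • z • eI i := by
      rw [← mul_smul, c2, mul_smul]
    rw [h4, lineSmul, hzc i, lineSmul, h4, hzc j, smul_smul, smul_smul] at h5
    have := congrFun h5 j
    simp [eI] at this
    have hne : (d i)⁻¹ * d j ≠ 0 := mul_ne_zero (inv_ne_zero (hdi i)) (hdi j)
    exact (mul_left_cancel₀ hne (this.trans (mul_comm _ _))).symm
  obtain ⟨k0, k1, k2⟩ := cyc_e hF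
  have hzs : ∀ v : Fin 3 → F, z • v = r 0 • v := fun v => by
    have hall : ∀ i, r i = r 0 := fun i => by
      fin_cases i
      · rfl
      · exact hmove 1 0 k1
      · exact (hmove 0 2 k0).symm
    have hm : mat z = r 0 • (1 : Matrix (Fin 3) (Fin 3) F) := by
      ext i j
      rw [← smul_eI_apply hF]
      by_cases e : i = j
      · subst e; simp [← hall i, r]
      · simp [e, hdia j i (Ne.symm e)]
    show mat z *ᵥ v = _
    rw [hm, Matrix.smul_mulVec, Matrix.one_mulVec]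
  have hr3 : r 0 ^ 3 = 1 := by
    have := herm_smul_SU z (eI 0) (eI 0)
    rw [hzs, herm_smul_left, herm_smul_right hF, herm_eI_eI hF, if_pos rfl, mul_one] at this
    rw [pow_succ']; exact this
  have hcz : Commute h z := eq_of_smul_eq_SU fun v => by rw [mul_smul h z, mul_smul z h, hzs, hzs, lineSmul]
  have h4 : h ^ 4 = 1 := by rw [hh, ← map_pow, fourier_four hF hw h1, map_one]
  have hz4 : z ^ 4 = 1 := by
    have : (h * z) ^ 4 = 1 := by rw [hz, mul_inv_cancel_left, ← map_pow, h4, map_one]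
    rwa [hcz.mul_pow, h4, one_mul] at this
  have hpow : ∀ (n : ℕ) (v : Fin 3 → F), z ^ n • v = r 0 ^ n • v := fun n v => by
    induction n with
    | zero => simp
    | succ n ih => rw [pow_succ, mul_smul, hzs, lineSmul, ih, smul_smul, pow_succ']
  have hr1 : r 0 = 1 := by
    have := congrFun (hpow 4 (eI 0)) 0
    rw [hz4, one_smul] at this
    simp [eI] at this
    rw [show 4 = 3 + 1 from rfl, pow_succ, hr3, one_mul] at this
    exact this.symm
  show α h = h
  have : z = 1 := eq_of_smul_eq_SU fun v => by rw [hzs, hr1, one_smul, one_smul]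
  rw [hz, inv_mul_eq_one] at this
  exact this.symm

/-- `SU_M` is generated by consecutive blocks of size three. -/
theorem gen3 : ∀ {M : ℕ}, 3 ≤ M → ∀ P : Subgroup (SU M F 2), (∀ k, k + 3 ≤ M → ∀ Y, bl M 3 k Y ∈ P) → P = ⊤ := by
  intro M hM
  induction M, hM using Nat.le_induction with
  | base => exact fun P hP => eq_top_iff.2 fun g _ => bl_self g ▸ hP 0 le_rfl g
  | succ m hm ih =>
  intro P hP
  have hQ : ∀ A, bl (m + 1) m 1 A ∈ P := fun A => by
    have := ih (P.comap (bl (m + 1) m 1)) fun k hk Y => by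
      rw [Subgroup.mem_comap, bl_comp_apply (m := k + 1) (by omega) hk (by omega)]
      exact hP _ (by omega) Y
    exact (this ▸ Subgroup.mem_top A : A ∈ P.comap _)
  refine eq_top_iff.2 fun g _ => ?_
  have hstab : ∀ g : SU (m + 1) F 2, g • (eI 0 : Fin (m + 1) → F) = eI 0 → g ∈ P := fun g hg => by
    obtain ⟨A, rfl⟩ := exists_bl hF (k := 1) (a := m) (b := m + 1) (by omega) (g := g) fun j hj => by
      obtain rfl : j = 0 := Fin.ext (show (j : ℕ) = 0 by have := j.isLt; omega)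
      exact hg
    exact hQ A
  suffices key : ∀ v : Fin (m + 1) → F, herm 2 v v = 1 → ∃ x ∈ P, x • (eI 0 : Fin (m + 1) → F) = v by
    obtain ⟨x, hx, hxe⟩ := key (g • eI 0) (by rw [herm_smul_SU, herm_eI_eI hF, if_pos rfl])
    rw [show g = x * (x⁻¹ * g) by group]
    exact mul_mem hx (hstab _ (by rw [mul_smul, ← hxe, inv_smul_smul]))
  have hW : ∀ k, k + 2 ≤ m + 1 → ∀ X, bl (m + 1) 2 k X ∈ P := fun k hk X => by
    by_cases h : k + 3 ≤ m + 1
    · rw [← bl_comp_apply (b := 3) (m := k) h (show 0 + 2 ≤ 3 by norm_num) (by omega)]; exact hP _ h _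
    · rw [← bl_comp_apply (b := 3) (k := k - 1) (m := k) (by omega) (show 1 + 2 ≤ 3 by norm_num) (by omega)]
      exact hP _ (by omega) _
  obtain ⟨W0, -, -⟩ := blW hF (b := m + 1) (k := 0) (by omega)
  have hnil : (fun i : Fin 0 => i) = fun i => i := rfl
  -- vectors orthogonal to the first basis vector
  have korth : ∀ v : Fin (m + 1) → F, herm 2 v v = 1 → v 0 = 0 → ∃ x ∈ P, x • (eI 0 : Fin (m + 1) → F) = v := by
    intro v hv h0
    obtain ⟨g, hg, hge⟩ := exists_fixS_one hF (n := m + 1) (S := {0})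
      (by rw [Finset.card_compl, Fintype.card_fin, Finset.card_singleton]; omega) (x := eI ⟨1, by omega⟩) (x' := v)
      (eI_mem_supp (by simp [Fin.ext_iff])) (fun i hi => by rw [Finset.mem_singleton.1 hi]; exact h0)
      (by rw [herm_eI_eI hF, if_pos rfl]) hv
    exact ⟨g * bl (m + 1) 2 0 (W hF), mul_mem (hstab g (mem_fixS.1 hg 0 (by simp))) (hW _ (by omega) _), by
      rw [mul_smul, show bl (m + 1) 2 0 (W hF) • (eI 0 : Fin (m + 1) → F) = _ from W0]; exact hge⟩
  intro v hv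
  by_cases h0 : v 0 = 0
  · exact korth v hv h0
  set r : Fin (m + 1) → F := v - v 0 • eI 0 with hr
  have hv3 : v 0 * v 0 ^ 2 = 1 := by rw [← pow_succ']; exact cube hF h0
  have hr0 : r 0 = 0 := by simp [hr, eI]
  have hr0' : herm 2 r (eI 0) = 0 := by rw [herm_eI_right hF]; exact hr0
  have hrr : herm 2 r r = 0 := by
    have hve : herm 2 v (eI 0) = v 0 := herm_eI_right hF 0 v
    rw [show herm 2 r r = herm 2 r v by
      conv_lhs => rw [hr, herm_sub_right hF, herm_smul_right hF, ← hr, hr0', mul_zero, sub_zero]]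
    rw [hr, herm_sub_left, herm_smul_left, herm_swap hF v (eI 0), hve, hv, hv3, sub_self]
  by_cases hrz : r = 0
  · obtain ⟨A, hA, -⟩ := exists_dg2 hF (b := m + 1) (k := 0) (by omega) (c := v 0) h0
    refine ⟨bl (m + 1) 2 0 A, hW _ (by omega) _, ?_⟩
    rw [show bl (m + 1) 2 0 A • (eI 0 : Fin (m + 1) → F) = _ from hA]
    exact (sub_eq_zero.1 (hr ▸ hrz)).symm
  obtain ⟨x, y, hxy, hxx, hyy, hxy0, hxp, hyp⟩ :=
    exists_split hF (a := ![(eI 0 : Fin (m + 1) → F)]) (Cfsg.Agent.KSG55.SUStep.orth_one hF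
      (by rw [herm_eI_eI hF, if_pos rfl]; exact one_ne_zero)) hrr hrz (fun i => by rw [Subsingleton.elim i 0]; exact hr0')
  set e1 : Fin (m + 1) := ⟨1, by omega⟩
  set e2 : Fin (m + 1) := ⟨2, by omega⟩
  obtain ⟨g, hg, hgx, hgy⟩ := exists_fixS_two hF (n := m + 1) (S := {0})
    (by rw [Finset.card_compl, Fintype.card_fin, Finset.card_singleton]; omega) (a := x) (b := y) (a' := eI e1)
    (b' := eI e2)
    (fun i hi => by rw [Finset.mem_singleton.1 hi, ← herm_eI_right hF 0 x]; exact hxp 0)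
    (fun i hi => by rw [Finset.mem_singleton.1 hi, ← herm_eI_right hF 0 y]; exact hyp 0)
    (eI_mem_supp (by simp [e1, Fin.ext_iff])) (eI_mem_supp (by simp [e2, Fin.ext_iff])) hxx
    (by rw [hyy, neg_eq hF]) hxy0 (by rw [herm_eI_eI hF, if_pos rfl]) (by rw [herm_eI_eI hF, if_pos rfl])
    (by rw [herm_eI_eI hF, if_neg (by simp [e1, e2, Fin.ext_iff])])
  have hg0 := mem_fixS.1 hg 0 (by simp)
  have hgv : g • v = v 0 • eI 0 + (eI e1 + eI e2) := by
    have e : v = v 0 • eI 0 + (x + y) := by rw [← hxy, hr, add_sub_cancel]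
    conv_lhs => rw [e]
    rw [smul_add, smul_add, lineSmul, hg0, hgx, hgy]
  set u : Fin 3 → F := ![v 0, 1, 1]
  have hu : herm 2 u u = 1 := by
    simp [u, herm, hermForm, Fin.sum_univ_three, hv3]
    linear_combination two_zero hF
  obtain ⟨Y, -, hY⟩ := exists_fixS_one hF (n := 3) (S := ∅) (by simp) (x := eI 0) (x' := u)
    (by simp [supp_empty]) (by simp [supp_empty]) (by rw [herm_eI_eI hF, if_pos rfl]) hu
  have hYv : bl (m + 1) 3 0 Y • (eI 0 : Fin (m + 1) → F) = g • v := by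
    rw [hgv]
    refine ext_parts (shift 0 (show 0 + 3 ≤ m + 1 by omega)) (fun l => ?_) fun l hl => ?_
    · rw [bl_smul_in, show (eI 0 : Fin (m + 1) → F) ∘ shift 0 (show 0 + 3 ≤ m + 1 by omega) = eI 0 from
        funext fun t => by simp only [Function.comp_apply, eI, Pi.single_apply, Fin.ext_iff, shift_val, Fin.val_zero, Nat.zero_add], hY]
      simp only [Pi.add_apply, Pi.smul_apply, eI, Pi.single_apply, Fin.ext_iff, shift_val, smul_eq_mul]
      fin_cases l <;> simp only [u, e1, e2, Fin.val_zero, Fin.val_mk, Nat.zero_add, mul_ite, mul_one, mul_zero] <;>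
        norm_num <;> rfl
    · have h3 : 3 ≤ (l : ℕ) := by
        by_contra hc
        exact hl ⟨l, by omega⟩ (Fin.ext (by simp [shift_val]))
      rw [bl_eq (show 0 + 3 ≤ m + 1 by omega), emap_off _ _ _ hl]
      simp only [Pi.add_apply, Pi.smul_apply, eI, Pi.single_apply, Fin.ext_iff, e1, e2, smul_eq_mul, Fin.val_zero]
      rw [if_neg (by omega), if_neg (by omega), if_neg (by omega)]
      simp
  refine ⟨g⁻¹ * bl (m + 1) 3 0 Y, mul_mem (inv_mem (hstab g hg0)) (hP _ (by omega) Y), ?_⟩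
  rw [mul_smul, hYv, inv_smul_smul]

end Cfsg.Agent.Phan18
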