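import Cfsg.Agent.Phan18.Coherent
import Cfsg.Agent.KSG55.SUStep.Cover

/-!
`SU_M(2)` is the universal completion of its system of consecutive blocks of size four with the commutation
of disjoint smaller blocks.
-/

set_option autoImplicit false
set_option linter.unusedSectionVars false
set_option maxHeartbeats 800000

namespace Cfsg.Agent.Phan18

open Cfsg.Agent.Unitary Cfsg.Agent.KSG55.Phan Matrix
open Cfsg.Agent.KSG55.SUStep (exists_fixS_one)

universe u w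

variable {F : Type u} [Field F] [Fintype F]

/-- A coherent system on the blocks of size four. -/
structure Sys4 (F : Type u) [Field F] [Fintype F] (M : ℕ) (H : Type w) [Group H] where
  /-- the blocks -/
  f : ℕ → SU 4 F 2 →* H
  agree : ∀ k, k + 5 ≤ M → ∀ Y : SU 3 F 2, f k (bl 4 3 1 Y) = f (k + 1) (bl 4 3 0 Y)
  comm : ∀ (k l a b i j : ℕ), k + 4 ≤ M → l + 4 ≤ M → i + a ≤ 4 → j + b ≤ 4 →
    (a = 2 ∧ b = 3 ∨ a = 3 ∧ b = 2 ∨ a = 3 ∧ b = 3) → k + i + a ≤ l + j →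
      ∀ (A : SU a F 2) (B : SU b F 2), Commute (f k (bl 4 a i A)) (f l (bl 4 b j B))

/-- The torus element. -/
def d4 (l : F) (h : l ^ (2 + 1) = 1) : SU 4 F 2 :=
  dg ![l, l⁻¹, 1, 1] (fun i => by fin_cases i <;> simp [h])
    (by simp [Fin.prod_univ_four, ne_zero_of_norm h])

theorem d4_e0 {l : F} (h : l ^ (2 + 1) = 1) : d4 l h • (eI 0 : Fin 4 → F) = l • eI 0 := by
  rw [d4, dg_smul_eI]; rfl

theorem d4_e1 {l : F} (h : l ^ (2 + 1) = 1) : d4 l h • (eI 1 : Fin 4 → F) = l⁻¹ • eI 1 := by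
  rw [d4, dg_smul_eI]; rfl

theorem d4_one : d4 (1 : F) (one_pow _) = 1 := eq_of_smul_eq_SU fun v => by
  rw [d4, dg_smul, one_smul]; funext i; fin_cases i <;> simp

theorem d4_mul {l m : F} (hl : l ^ (2 + 1) = 1) (hm : m ^ (2 + 1) = 1) (h : (l * m) ^ (2 + 1) = 1) :
    d4 l hl * d4 m hm = d4 (l * m) h := eq_of_smul_eq_SU fun v => by
  simp only [mul_smul, d4, dg_smul]
  funext i; fin_cases i <;> simp <;> ring

theorem d4_inv {l : F} (hl : l ^ (2 + 1) = 1) (h : l⁻¹ ^ (2 + 1) = 1) : (d4 l hl)⁻¹ = d4 l⁻¹ h := by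
  refine inv_eq_of_mul_eq_one_right ?_
  rw [d4_mul hl h (by rw [mul_pow, hl, h, one_mul]), ← d4_one]
  congr 1
  exact mul_inv_cancel₀ (ne_zero_of_norm hl)

/-- The block of size three starting at `j` inside a block of size four. -/
theorem exists_blk3 {M j : ℕ} (hM : 4 ≤ M) (hj : j + 3 ≤ M) :
    ∃ l o, l + 4 ≤ M ∧ o + 3 ≤ 4 ∧ l + o = j := by
  by_cases h : j + 4 ≤ M
  · exact ⟨j, 0, h, by norm_num, rfl⟩
  · exact ⟨j - 1, 1, by omega, le_rfl, by omega⟩

variable (hF : Fintype.card F = 2 ^ 2)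

include hF

/-- An element fixing a coordinate line scales it by a norm one scalar. -/
theorem norm_of_line {n : ℕ} {g : SU n F 2} {i : Fin n} {c : F} (h : g • (eI i : Fin n → F) = c • eI i) :
    c ^ (2 + 1) = 1 := by
  have h' := herm_smul_SU g (eI i) (eI i)
  rw [h, herm_smul_left, herm_smul_right hF, herm_eI_eI hF, if_pos rfl, mul_one] at h'
  rw [pow_succ']; exact h'

theorem eq_on {M : ℕ} (hM : 4 ≤ M) {H : Type w} [Group H] {g g' : SU M F 2 →* H}
    (h : ∀ l o, l + 4 ≤ M → o + 3 ≤ 4 → ∀ Y, g (bl M 4 l (bl 4 3 o Y)) = g' (bl M 4 l (bl 4 3 o Y))) (A : SU M F 2) :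
    g A = g' A := by
  suffices e : g.eqLocus g' = ⊤ from (e ▸ Subgroup.mem_top A : A ∈ g.eqLocus g')
  refine gen3 hF (show 3 ≤ M by omega) _ fun j hj Y => ?_
  obtain ⟨l, o, hl, ho, rfl⟩ := exists_blk3 hM hj
  show g _ = g' _
  rw [← bl_comp_apply (m := l + o) hl ho rfl]
  exact h l o hl ho Y

/-- The inductive step: the covering is injective. -/
theorem step_injective {H : Type w} [Group H] {k : ℕ} (S : Sys4 F (k + 5) H)
    (φ : H →* SU (k + 5) F 2) (hφ : ∀ j, j + 4 ≤ k + 5 → ∀ Y, φ (S.f j Y) = bl (k + 5) 4 j Y)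
    (hgen : ∀ P : Subgroup H, (∀ j, j + 4 ≤ k + 5 → ∀ Y, S.f j Y ∈ P) → P = ⊤)
    (f1 : SU (k + 4) F 2 →* H) (hf1 : ∀ j, j + 4 ≤ k + 4 → ∀ Y, f1 (bl (k + 4) 4 j Y) = S.f (j + 1) Y) :
    Function.Injective φ := by
  classical
  have hφf1 : ∀ A, φ (f1 A) = bl (k + 5) (k + 4) 1 A := fun A => by
    show (φ.comp f1) A = _
    refine eq_on hF (by omega) (fun l o hl ho Y => ?_) A
    rw [MonoidHom.comp_apply, hf1 l hl, hφ (l + 1) (by omega), bl_comp_apply (m := l + 1) (by omega) hl (by omega)]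
  have hhead : ∀ Y, f1 (bl (k + 4) 3 0 Y) = S.f 0 (bl 4 3 1 Y) := fun Y => by
    rw [← bl_comp_apply (b := 4) (k := 0) (m := 0) (show 0 + 4 ≤ k + 4 by omega) (show 0 + 3 ≤ 4 by norm_num) rfl,
      hf1 0 (by omega), S.agree 0 (by omega)]
  -- the torus normalises the tail
  have hcomm1 : ∀ (X : SU 2 F 2) (j : ℕ), 1 ≤ j → j + 3 ≤ k + 4 → ∀ Y,
      Commute (S.f 0 (bl 4 2 0 X)) (f1 (bl (k + 4) 3 j Y)) := fun X j h0 hj Y => by
    obtain ⟨l, o, hl, ho, rfl⟩ := exists_blk3 (show 4 ≤ k + 4 by omega) hj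
    rw [← bl_comp_apply (m := l + o) hl ho rfl, hf1 l hl]
    exact S.comm 0 (l + 1) 2 3 0 o (by omega) (by omega) (by norm_num) ho (Or.inl ⟨rfl, rfl⟩) (by omega) X Y
  have hd4bl : ∀ (l : F) (hl : l ^ (2 + 1) = 1), ∃ X, bl 4 2 0 X = d4 l hl := fun l hl =>
    exists_bl hF (by norm_num) fun j hj => by
      obtain rfl | rfl : j = 2 ∨ j = 3 := by omega
      all_goals rw [d4, dg_smul_eI]; simp
  have hnorm : ∀ (l : F) (hl : l ^ (2 + 1) = 1) (A : SU (k + 4) F 2),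
      ∃ A', f1 A * S.f 0 (d4 l hl) = S.f 0 (d4 l hl) * f1 A' := by
    intro l hl A
    set e : Fin (k + 4) → F := fun i => if (i : ℕ) = 0 then l⁻¹ else 1 with he'
    have he : ∀ i, e i ^ (2 + 1) = 1 := fun i => by
      by_cases h : (i : ℕ) = 0 <;> simp [he', h, inv_pow, hl]
    set g := S.f 0 (d4 l hl) with hg
    have key : ∀ X, g * f1 X * g⁻¹ = f1 (twist (RingEquiv.refl F) e he X) := by
      suffices e' : ((MulAut.conj g).toMonoidHom.comp f1).eqLocus (f1.comp (twist (RingEquiv.refl F) e he)) = ⊤ from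
        fun X => (e' ▸ Subgroup.mem_top X :
          X ∈ ((MulAut.conj g).toMonoidHom.comp f1).eqLocus (f1.comp (twist (RingEquiv.refl F) e he)))
      refine gen3 hF (show 3 ≤ k + 4 by omega) _ fun j hj Y => ?_
      show g * f1 _ * g⁻¹ = f1 (twist _ _ _ _)
      rcases Nat.eq_zero_or_pos j with rfl | hj0
      · have h3 : ∀ i, (![l⁻¹, 1, 1] : Fin 3 → F) i ^ (2 + 1) = 1 := fun i => by
          fin_cases i <;> simp [hl, inv_pow]
        rw [twist_bl hj _ he h3 fun i => by fin_cases i <;> simp [he', shift_val, -Fin.val_eq_zero_iff], hhead, hhead, hg,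
          mul_inv_eq_iff_eq_mul, ← map_mul, ← map_mul]
        refine congrArg (S.f 0) ?_
        rw [d4, dg_conj, twist_bl (k := 1) (by norm_num) _ _ h3 fun i => by fin_cases i <;> rfl]
      · obtain ⟨A0, hA0⟩ := hd4bl l hl
        have h3 : ∀ i, (fun _ => (1 : F) : Fin 3 → F) i ^ (2 + 1) = 1 := fun i => one_pow _
        have htw : twist (RingEquiv.refl F) (fun _ => (1 : F) : Fin 3 → F) h3 Y = Y := Subtype.ext (Subtype.ext (by
          ext a b
          show mat (twist _ _ h3 Y) a b = mat Y a b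
          rw [twist_mat]; simp))
        rw [twist_bl hj _ he h3 fun i => by simp [he', shift_val, -Fin.val_eq_zero_iff]; omega, htw, hg, ← hA0,
          (hcomm1 A0 j hj0 hj Y).eq, mul_inv_cancel_right]
    obtain ⟨A', hA'⟩ := (Finite.injective_iff_surjective).1 (twist_injective (RingEquiv.refl F) he) A
    exact ⟨A', by rw [← hA', ← key, inv_mul_cancel_right]⟩
  let K : Subgroup H :=
    { carrier := {x | ∃ (l : F) (hl : l ^ (2 + 1) = 1) (A : SU (k + 4) F 2), x = S.f 0 (d4 l hl) * f1 A}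
      one_mem' := ⟨1, one_pow _, 1, by rw [d4_one, map_one, map_one, mul_one]⟩
      mul_mem' := by
        rintro _ _ ⟨l, hl, A, rfl⟩ ⟨l', hl', A', rfl⟩
        obtain ⟨B, hB⟩ := hnorm l' hl' A
        refine ⟨l * l', by rw [mul_pow, hl, hl', one_mul], B * A', ?_⟩
        rw [← d4_mul hl hl', map_mul (S.f 0), map_mul f1, mul_assoc, ← mul_assoc (f1 A), hB]
        group
      inv_mem' := by
        rintro _ ⟨l, hl, A, rfl⟩
        have hli : l⁻¹ ^ (2 + 1) = 1 := by rw [inv_pow, hl, inv_one]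
        obtain ⟨B, hB⟩ := hnorm l⁻¹ hli A⁻¹
        exact ⟨l⁻¹, hli, B, by rw [_root_.mul_inv_rev, ← map_inv, ← map_inv, d4_inv hl hli, hB]⟩ }
  have hKf : ∀ A, f1 A ∈ K := fun A => ⟨1, one_pow _, A, by rw [d4_one, map_one, one_mul]⟩
  have hshift : ∀ i : Fin 4, shift 0 (show 0 + 4 ≤ k + 5 by omega) i = ⟨i, by omega⟩ := fun i =>
    Fin.ext (by simp [shift_val])
  have hE0 : ∀ A, bl (k + 5) (k + 4) 1 A • (eI 0 : Fin (k + 5) → F) = eI 0 := fun A =>
    bl_fix hF (by omega) A (Or.inl (by simp))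
  have hbl0 : ∀ (Y : SU 4 F 2) (c : F), Y • (eI 0 : Fin 4 → F) = c • eI 0 →
      bl (k + 5) 4 0 Y • (eI 0 : Fin (k + 5) → F) = c • eI 0 := fun Y c h => by
    have := bl_smul_eI (show 0 + 4 ≤ k + 5 by omega) h
    rwa [hshift] at this
  have hmemf : ∀ (Y : SU 4 F 2) (c : F), Y • (eI 0 : Fin 4 → F) = c • eI 0 → S.f 0 Y ∈ K := by
    intro Y c h
    have hc := norm_of_line hF h
    obtain ⟨X, hX⟩ := exists_bl hF (k := 1) (a := 3) (b := 4) (by norm_num) (g := (d4 c hc)⁻¹ * Y) fun j hj => by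
      obtain rfl : j = 0 := by omega
      rw [mul_smul, h, inv_smul_eq_iff, d4_e0]
    exact ⟨c, hc, bl (k + 4) 3 0 X, by rw [hhead, hX, ← map_mul, mul_inv_cancel_left]⟩
  obtain ⟨W0, W0', -⟩ := blW hF (b := 4) (k := 0) (by norm_num)
  obtain ⟨W1, W1', W1''⟩ := blW hF (b := 4) (k := 1) (by norm_num)
  obtain ⟨W2, -, W2''⟩ := blW hF (b := 4) (k := 2) (by norm_num)
  set w0 : SU 4 F 2 := bl 4 2 0 (W hF) with hw0
  set w1 : SU 4 F 2 := bl 4 2 1 (W hF) with hw1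
  have e01 : w0 • (eI 0 : Fin 4 → F) = eI 1 := W0
  have e10 : w0 • (eI 1 : Fin 4 → F) = eI 0 := W0'
  have e12 : w1 • (eI 1 : Fin 4 → F) = eI 2 := W1
  have e00 : w1 • (eI 0 : Fin 4 → F) = eI 0 := W1'' 0 (by simp) (by simp)
  set s := S.f 0 w0 with hs
  have hinj : ∀ x ∈ K, φ x = 1 → x = 1 := by
    rintro _ ⟨l, hl, A, rfl⟩ h
    rw [map_mul, hφ 0 (by omega), hφf1] at h
    have h0 := congrArg (fun g : SU (k + 5) F 2 => (g • (eI 0 : Fin (k + 5) → F)) 0) h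
    simp only [mul_smul, hE0, hbl0 _ _ (d4_e0 hl), one_smul] at h0
    obtain rfl : l = 1 := by simpa [eI] using h0
    rw [d4_one, map_one, one_mul] at h
    rw [d4_one, map_one, one_mul, bl_injective (by omega) (h.trans (map_one _).symm), map_one]
  have hmem : ∀ x ∈ K, ∃ c : F, φ x • (eI 0 : Fin (k + 5) → F) = c • eI 0 := by
    rintro _ ⟨l, hl, A, rfl⟩
    exact ⟨l, by rw [map_mul, hφ 0 (by omega), hφf1, mul_smul, hE0, hbl0 _ _ (d4_e0 hl)]⟩
  have hlift : ∀ g : SU (k + 5) F 2, (∃ c : F, g • (eI 0 : Fin (k + 5) → F) = c • eI 0) → ∃ x ∈ K, φ x = g := by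
    rintro g ⟨c, hg⟩
    have hc := norm_of_line hF hg
    obtain ⟨A, hA⟩ := exists_bl hF (k := 1) (a := k + 4) (b := k + 5) (by omega)
      (g := (bl (k + 5) 4 0 (d4 c hc))⁻¹ * g) fun j hj => by
      obtain rfl : j = 0 := Fin.ext (show (j : ℕ) = 0 by have := j.isLt; omega)
      rw [mul_smul, hg, inv_smul_eq_iff, hbl0 _ _ (d4_e0 hc)]
    exact ⟨_, ⟨c, hc, A, rfl⟩, by rw [map_mul, hφ 0 (by omega), hφf1, hA, mul_inv_cancel_left]⟩
  have hbl4 : ∀ (Y : SU 4 F 2) (v : Fin 4 → F) (v' : Fin (k + 5) → F) (i : Fin 4), Y • (eI i : Fin 4 → F) = v →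
      (∀ l : Fin 4, v' ⟨l, by omega⟩ = v l) → (∀ j : Fin (k + 5), 4 ≤ (j : ℕ) → v' j = 0) →
      bl (k + 5) 4 0 Y • (eI ⟨i, by omega⟩ : Fin (k + 5) → F) = v' := by
    intro Y v v' i hY hin hout
    refine ext_parts (shift 0 (show 0 + 4 ≤ k + 5 by omega)) (fun l => ?_) fun j hj => ?_
    · rw [bl_smul_in, show (eI ⟨i, by omega⟩ : Fin (k + 5) → F) ∘ shift 0 (show 0 + 4 ≤ k + 5 by omega) = eI i from
        funext fun t => by simp [eI, Pi.single_apply, Fin.ext_iff, -Fin.val_eq_zero_iff, shift_val], hY, hshift, hin]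
    · have h4j : 4 ≤ (j : ℕ) := by
        by_contra hc
        exact hj ⟨j, by omega⟩ (Fin.ext (by simp [shift_val]))
      rw [bl_eq (show 0 + 4 ≤ k + 5 by omega), emap_off _ _ _ hj, hout j h4j]
      simp [eI, Pi.single_apply, Fin.ext_iff]; omega
  have hn1 : (1 : Fin (k + 5)) = ⟨((1 : Fin 4) : ℕ), by simp⟩ := Fin.ext (by simp)
  have hn2 : (2 : Fin (k + 5)) = ⟨((2 : Fin 4) : ℕ), by simp⟩ := Fin.ext (by simp [Nat.mod_eq_of_lt])
  have hn3 : (3 : Fin (k + 5)) = ⟨((3 : Fin 4) : ℕ), by simp⟩ := Fin.ext (by simp [Nat.mod_eq_of_lt])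
  have hbe : ∀ (Y : SU 4 F 2) (i j : Fin 4), Y • (eI i : Fin 4 → F) = eI j →
      bl (k + 5) 4 0 Y • (eI ⟨i, by omega⟩ : Fin (k + 5) → F) = eI ⟨j, by omega⟩ := fun Y i j h => by
    have := bl_smul_eI (show 0 + 4 ≤ k + 5 by omega) (A := Y) (i := i) (j := j) (t := (1 : F)) (by rw [one_smul]; exact h)
    rwa [hshift, hshift, one_smul] at this
  have hs0 : φ s • (eI 0 : Fin (k + 5) → F) = eI 1 := by
    rw [hs, hφ 0 (by omega), hn1]
    exact hbe w0 0 1 e01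
  have hss : s * s ∈ K := by
    rw [hs, ← map_mul]
    exact hmemf _ 1 (by rw [one_smul, mul_smul, e01, e10])
  have hcomm2 : ∀ (B : SU (k + 3) F 2) (X : SU 2 F 2),
      Commute (f1 (bl (k + 4) (k + 3) 1 B)) (S.f 0 (bl 4 2 0 X)) := by
    intro B X
    have := gen3 hF (show 3 ≤ k + 3 by omega)
      ((Subgroup.centralizer {S.f 0 (bl 4 2 0 X)}).comap (f1.comp (bl (k + 4) (k + 3) 1))) fun j hj Z => by
      rw [Subgroup.mem_comap, Subgroup.mem_centralizer_singleton_iff, MonoidHom.comp_apply,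
        bl_comp_apply (m := j + 1) (by omega) hj (by omega)]
      exact (hcomm1 X (j + 1) (by omega) (by omega) Z).eq.symm
    have hB : B ∈ (Subgroup.centralizer {S.f 0 (bl 4 2 0 X)}).comap (f1.comp (bl (k + 4) (k + 3) 1)) :=
      this ▸ Subgroup.mem_top B
    exact Subgroup.mem_centralizer_singleton_iff.1 hB
  have hstab : ∀ x ∈ K, (∃ c : F, φ x • (eI 1 : Fin (k + 5) → F) = c • eI 1) → s⁻¹ * x * s ∈ K := by
    rintro _ ⟨l, hl, A, rfl⟩ ⟨c, hc⟩
    have hl0 := ne_zero_of_norm hl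
    have hD1 : bl (k + 5) 4 0 (d4 l hl) • (eI 1 : Fin (k + 5) → F) = l⁻¹ • eI 1 := by
      have := bl_smul_eI (show 0 + 4 ≤ k + 5 by omega) (d4_e1 hl)
      rwa [hshift, ← hn1] at this
    rw [map_mul, hφ 0 (by omega), hφf1, mul_smul, ← eq_inv_smul_iff, lineSmul] at hc
    have hi : bl (k + 5) (k + 4) 1 A • (eI 1 : Fin (k + 5) → F) = (c * l) • eI 1 := by
      rw [hc, ← inv_smul_eq_iff.2 (show (eI 1 : Fin (k + 5) → F) = bl (k + 5) 4 0 (d4 l hl) • (l • eI 1) by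
        rw [lineSmul, hD1, smul_smul, mul_inv_cancel₀ hl0, one_smul]) |>.symm, smul_smul]
    have hA : A • (eI 0 : Fin (k + 4) → F) = (c * l) • eI 0 := by
      funext i
      have := congrFun hi (shift 1 (show 1 + (k + 4) ≤ k + 5 by omega) i)
      rw [bl_smul_in, show (eI 1 : Fin (k + 5) → F) ∘ shift 1 (show 1 + (k + 4) ≤ k + 5 by omega) = eI 0 from
        funext fun t => by simp [eI, Pi.single_apply, Fin.ext_iff, -Fin.val_eq_zero_iff, shift_val]] at this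
      rw [this]
      simp [eI, Pi.single_apply, Fin.ext_iff, -Fin.val_eq_zero_iff, shift_val]
    have hcl := norm_of_line hF hA
    set D2 := dg (![c * l, (c * l)⁻¹] : Fin 2 → F) (fun i => by
      fin_cases i
      · exact hcl
      · show (c * l)⁻¹ ^ (2 + 1) = 1; rw [inv_pow, hcl, inv_one]) (by
      simp only [Fin.prod_univ_two, Matrix.cons_val_zero, Matrix.cons_val_one]
      exact mul_inv_cancel₀ (ne_zero_of_norm hcl)) with hD2
    have hD2e : D2 • (eI 0 : Fin 2 → F) = (c * l) • eI 0 := by rw [hD2, dg_smul_eI]; rfl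
    obtain ⟨B, hB⟩ := exists_bl hF (k := 1) (a := k + 3) (b := k + 4) (by omega)
      (g := (bl (k + 4) 2 0 D2)⁻¹ * A) fun j hj => by
      obtain rfl : j = 0 := Fin.ext (show (j : ℕ) = 0 by have := j.isLt; omega)
      have := bl_smul_eI (show 0 + 2 ≤ k + 4 by omega) hD2e
      rw [show shift 0 (show 0 + 2 ≤ k + 4 by omega) (0 : Fin 2) = 0 from Fin.ext (by simp [shift_val])] at this
      rw [mul_smul, hA, inv_smul_eq_iff, this]
    have h21 : S.f 0 (bl 4 2 1 D2) = f1 (bl (k + 4) 2 0 D2) := by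
      rw [← bl_comp_apply (b := 3) (m := 1) (show 1 + 3 ≤ 4 by norm_num) (show 0 + 2 ≤ 3 by norm_num) rfl, ← hhead,
        bl_comp_apply (m := 0) (by omega) (show 0 + 2 ≤ 3 by norm_num) rfl]
    set Y := d4 l hl * bl 4 2 1 D2 with hY
    have hx : S.f 0 (d4 l hl) * f1 A = S.f 0 Y * f1 (bl (k + 4) (k + 3) 1 B) := by
      rw [hY, map_mul (S.f 0), h21, mul_assoc, ← map_mul f1, hB, mul_inv_cancel_left]
    have hY1 : Y • (eI 1 : Fin 4 → F) = c • eI 1 := by
      have := bl_smul_eI (show 1 + 2 ≤ 4 by norm_num) hD2e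
      rw [hY, mul_smul, show (eI 1 : Fin 4 → F) = eI (shift 1 (show 1 + 2 ≤ 4 by norm_num) (0 : Fin 2)) from rfl, this,
        show (eI (shift 1 (show 1 + 2 ≤ 4 by norm_num) (0 : Fin 2)) : Fin 4 → F) = eI 1 from rfl, lineSmul, d4_e1,
        smul_smul, mul_assoc, mul_inv_cancel₀ hl0, mul_one]
    have hfs : s⁻¹ * f1 (bl (k + 4) (k + 3) 1 B) * s = f1 (bl (k + 4) (k + 3) 1 B) := by
      rw [hs, hw0, mul_assoc, (hcomm2 B _).eq, inv_mul_cancel_left]
    rw [hx, show s⁻¹ * (S.f 0 Y * f1 (bl (k + 4) (k + 3) 1 B)) * s =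
      (s⁻¹ * S.f 0 Y * s) * (s⁻¹ * f1 (bl (k + 4) (k + 3) 1 B) * s) by group, hfs]
    refine mul_mem ?_ (hKf _)
    rw [hs, ← map_inv, ← map_mul, ← map_mul]
    refine hmemf _ c ?_
    rw [mul_smul, mul_smul, e01, hY1, lineSmul, inv_smul_eq_iff.2 e01.symm]
  have hk1 : S.f 0 w1 ∈ K := hmemf _ 1 (by rw [one_smul, e00])
  have htri : ∃ x ∈ K, ∃ y ∈ K, s⁻¹ * S.f 0 w1 * s = x * s * y := by
    have hY : ((w0⁻¹ * w1 * w0) • (eI 0 : Fin 4 → F)) 0 = 0 := by
      rw [← herm_eI_right hF 0 (_ • _), mul_smul, mul_smul, e01, e12, ← herm_smul_SU w0, smul_inv_smul, e01,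
        herm_eI_eI hF, if_neg (by decide)]
    obtain ⟨g, hg, hge⟩ := exists_fixS_one hF (n := 4) (S := {0}) (by decide) (x := eI 1)
      (x' := (w0⁻¹ * w1 * w0) • eI 0) (eI_mem_supp (by decide))
      (fun i hi => by rw [Finset.mem_singleton.1 hi]; exact hY)
      (by rw [herm_eI_eI hF, if_pos rfl]) (by rw [herm_smul_SU, herm_eI_eI hF, if_pos rfl])
    refine ⟨S.f 0 g, hmemf g 1 (by rw [one_smul]; exact mem_fixS.1 hg 0 (by simp)),
      S.f 0 ((g * w0)⁻¹ * (w0⁻¹ * w1 * w0)), hmemf _ 1 ?_, ?_⟩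
    · rw [one_smul, mul_smul, inv_smul_eq_iff, mul_smul g, e01, hge]
    · rw [hs, ← map_inv, ← map_mul, ← map_mul, ← map_mul, ← map_mul, mul_inv_cancel_left]
  have hgenK : Subgroup.closure ((K : Set H) ∪ {s}) = ⊤ := by
    set P := Subgroup.closure ((K : Set H) ∪ {s}) with hP
    have hKP : ∀ {x}, x ∈ K → x ∈ P := fun h => Subgroup.subset_closure (Or.inl h)
    have hsP : s ∈ P := Subgroup.subset_closure (Or.inr rfl)
    refine hgen P fun j hj Y => ?_
    rcases Nat.eq_zero_or_pos j with rfl | hj0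
    · have hst : ∀ Z : SU 4 F 2, Z • (eI 0 : Fin 4 → F) = eI 0 → Z ∈ P.comap (S.f 0) := fun Z hZ =>
        hKP (hmemf Z 1 (by rw [one_smul]; exact hZ))
      set w2 : SU 4 F 2 := bl 4 2 2 (W hF)
      set g := w2 * (w1 * w0)
      have hg : g ∈ P.comap (S.f 0) :=
        mul_mem (hst _ (W2'' 0 (by simp) (by simp))) (mul_mem (hst _ e00) hsP)
      have hg0 : g • (eI 0 : Fin 4 → F) = eI 3 := by
        rw [mul_smul, mul_smul, e01, e12]; exact W2
      have := gen3 hF (show 3 ≤ 4 by norm_num) (P.comap (S.f 0)) fun i hi Z => by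
        obtain rfl | rfl : i = 0 ∨ i = 1 := by omega
        · rw [show bl 4 3 0 Z = g * (g⁻¹ * bl 4 3 0 Z * g) * g⁻¹ by group]
          refine mul_mem (mul_mem hg (hst _ ?_)) (inv_mem hg)
          rw [mul_smul, mul_smul, hg0, bl_fix hF (by norm_num) Z (Or.inr le_rfl), inv_smul_eq_iff, hg0]
        · exact hst _ (bl_fix hF (by norm_num) Z (Or.inl (by simp)))
      exact (this ▸ Subgroup.mem_top Y : Y ∈ P.comap (S.f 0))
    · obtain ⟨i, rfl⟩ : ∃ i, j = i + 1 := ⟨j - 1, by omega⟩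
      rw [← hf1 i (by omega)]
      exact hKP (hKf _)
  -- the base configuration
  obtain ⟨w, hw, h1⟩ := exists_omega hF
  set Y3 := fourier hF hw h1
  set v4 := bl 4 3 0 Y3 • (eI 0 : Fin 4 → F) with hv4
  obtain ⟨a4, ha4, ha4e⟩ := exists_fixS_one hF (n := 4) (S := {0}) (by decide) (x := eI 1) (x' := eI 3)
    (eI_mem_supp (by decide)) (eI_mem_supp (by decide)) (by rw [herm_eI_eI hF, if_pos rfl])
    (by rw [herm_eI_eI hF, if_pos rfl])
  have has : (a4 * w0) • (eI 0 : Fin 4 → F) = eI 3 := by rw [mul_smul, e01, ha4e]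
  obtain ⟨b4, hb4, hb4e⟩ := exists_fixS_one hF (n := 4) (S := {0}) (by decide) (x := eI 1)
    (x' := (a4 * w0)⁻¹ • v4) (eI_mem_supp (by decide))
    (fun i hi => by
      rw [Finset.mem_singleton.1 hi, ← herm_eI_right hF 0 (_ • _), ← herm_smul_SU (a4 * w0), smul_inv_smul, has,
        hv4, ← bl_fix hF (show 0 + 3 ≤ 4 by norm_num) Y3 (j := (3 : Fin 4)) (Or.inr le_rfl), herm_smul_SU,
        herm_eI_eI hF, if_neg (by decide)])
    (by rw [herm_eI_eI hF, if_pos rfl]) (by rw [herm_smul_SU, hv4, herm_smul_SU, herm_eI_eI hF, if_pos rfl])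
  set g0 := a4 * w0 * (b4 * w0) with hg0
  have hg0e : g0 • (eI 0 : Fin 4 → F) = v4 := by rw [hg0, mul_smul, mul_smul b4, e01, hb4e, smul_inv_smul]
  have hR : S.f 0 ((bl 4 3 0 Y3)⁻¹ * g0) ∈ K := hmemf _ 1 (by rw [one_smul, mul_smul, hg0e, hv4, inv_smul_smul])
  refine (injective_iff_map_eq_one φ).2 (KSG55.SUStep.cov_injective (K := K) (s := s) (γ := (1 : F))
    ⟨hinj, hmem, hlift, hs0, hss, hstab, ⟨_, hk1, ?_, htri⟩, by rw [one_pow, neg_eq hF],
      ⟨S.f 0 a4, hmemf _ 1 (by rw [one_smul]; exact mem_fixS.1 ha4 0 (by simp)), S.f 0 b4,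
        hmemf _ 1 (by rw [one_smul]; exact mem_fixS.1 hb4 0 (by simp)), ?_, ?_, fun g hg x hx hxg => ?_⟩,
      hgenK⟩ hF)
  · rw [hφ 0 (by omega), hn1, hn2]
    exact hbe w1 1 2 e12
  · rw [hs, ← map_mul, hφ 0 (by omega), hn3]
    exact hbe (a4 * w0) 0 3 has
  · rw [hs, ← map_mul, ← map_mul, ← map_mul, hφ 0 (by omega)]
    refine hbl4 _ _ _ 0 hg0e (fun l => ?_) fun j hj => ?_
    · have hin : ∀ t : Fin 3, v4 (shift 0 (show 0 + 3 ≤ 4 by norm_num) t) = 1 := fun t => by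
        rw [hv4, bl_smul_in, show (eI 0 : Fin 4 → F) ∘ shift 0 (show 0 + 3 ≤ 4 by norm_num) = eI 0 from
          funext fun r => by simp [eI, Pi.single_apply, Fin.ext_iff, -Fin.val_eq_zero_iff, shift_val], fourier_e0]
      fin_cases l
      · refine Eq.trans ?_ (hin 0).symm; simp [KSG55.SUStep.v0, eI, Pi.single_apply, Fin.ext_iff, Nat.mod_eq_of_lt]
      · refine Eq.trans ?_ (hin 1).symm; simp [KSG55.SUStep.v0, eI, Pi.single_apply, Fin.ext_iff, Nat.mod_eq_of_lt]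
      · refine Eq.trans ?_ (hin 2).symm; simp [KSG55.SUStep.v0, eI, Pi.single_apply, Fin.ext_iff, Nat.mod_eq_of_lt]
      · rw [hv4, bl_eq (show 0 + 3 ≤ 4 by norm_num), emap_off _ _ _ fun t h => by
          have := congrArg Fin.val h; simp [shift_val] at this; omega]
        simp [KSG55.SUStep.v0, eI, Pi.single_apply, Fin.ext_iff, Nat.mod_eq_of_lt]
    · have e0 : j ≠ 0 := fun e => by rw [e] at hj; simp at hj
      have e1 : j ≠ 1 := fun e => by rw [e, Fin.val_one] at hj; omega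
      have e2 : j ≠ 2 := fun e => by rw [e, Fin.val_two] at hj; omega
      simp [KSG55.SUStep.v0, eI, e0, e1, e2]
  · obtain ⟨Gm, hGm⟩ := exists_bl hF (k := 3) (a := k + 2) (b := k + 5) (by omega) (g := g) fun j hj => by
      refine mem_fixS.1 hg j ?_
      have := j.isLt
      simp [Fin.ext_iff, -Fin.val_eq_zero_iff, Nat.mod_eq_of_lt]
      omega
    have hxe : x = f1 (bl (k + 4) (k + 2) 2 Gm) := by
      rw [← mul_inv_eq_one]
      refine hinj _ (mul_mem hx (inv_mem (hKf _))) ?_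
      rw [map_mul, map_inv, hxg, hφf1, bl_comp_apply (m := 3) (by omega) (by omega) rfl, hGm, mul_inv_cancel]
    have hc3 : Commute (S.f 0 (bl 4 3 0 Y3)) (f1 (bl (k + 4) (k + 2) 2 Gm)) := by
      rcases Nat.eq_zero_or_pos k with rfl | hk0
      · rw [show bl (0 + 4) (0 + 2) 2 Gm = bl (0 + 4) 4 0 (bl 4 2 2 Gm) from
          (bl_comp_apply (m := 2) (by omega) (by norm_num) rfl Gm).symm, hf1 0 (by omega)]
        exact S.comm 0 1 3 2 0 2 (by omega) (by omega) (by norm_num) (by norm_num)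
          (Or.inr (Or.inl ⟨rfl, rfl⟩)) (by omega) Y3 Gm
      have := gen3 hF (show 3 ≤ k + 2 by omega)
        ((Subgroup.centralizer {S.f 0 (bl 4 3 0 Y3)}).comap (f1.comp (bl (k + 4) (k + 2) 2))) fun j hj Z => by
        rw [Subgroup.mem_comap, Subgroup.mem_centralizer_singleton_iff, MonoidHom.comp_apply,
          bl_comp_apply (m := j + 2) (by omega) hj (by omega)]
        obtain ⟨l, o, hl, ho, he⟩ := exists_blk3 (show 4 ≤ k + 4 by omega) (show j + 2 + 3 ≤ k + 4 by omega)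
        rw [← bl_comp_apply (m := j + 2) hl ho he, hf1 l hl]
        exact (S.comm 0 (l + 1) 3 3 0 o (by omega) (by omega) (by norm_num) ho (Or.inr (Or.inr ⟨rfl, rfl⟩))
          (by omega) Y3 Z).eq.symm
      have hB : Gm ∈ (Subgroup.centralizer {S.f 0 (bl 4 3 0 Y3)}).comap (f1.comp (bl (k + 4) (k + 2) 2)) :=
        this ▸ Subgroup.mem_top Gm
      exact (Subgroup.mem_centralizer_singleton_iff.1 hB).symm
    rw [show S.f 0 a4 * s * (S.f 0 b4 * s) = S.f 0 (bl 4 3 0 Y3) * S.f 0 ((bl 4 3 0 Y3)⁻¹ * g0) by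
      rw [hs, ← map_mul, ← map_mul, ← map_mul, ← map_mul, mul_inv_cancel_left],
      show (S.f 0 (bl 4 3 0 Y3) * S.f 0 ((bl 4 3 0 Y3)⁻¹ * g0))⁻¹ * x *
        (S.f 0 (bl 4 3 0 Y3) * S.f 0 ((bl 4 3 0 Y3)⁻¹ * g0)) = (S.f 0 ((bl 4 3 0 Y3)⁻¹ * g0))⁻¹ *
        ((S.f 0 (bl 4 3 0 Y3))⁻¹ * x * S.f 0 (bl 4 3 0 Y3)) * S.f 0 ((bl 4 3 0 Y3)⁻¹ * g0) by group]
    refine mul_mem (mul_mem (inv_mem hR) ?_) hR
    rw [hxe, mul_assoc, ← hc3.eq, inv_mul_cancel_left]
    exact hKf _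

/-- The universal property. -/
theorem universal : ∀ {M : ℕ}, 4 ≤ M → ∀ {H : Type (max u w)} [Group H] (S : Sys4 F M H),
    ∃ f : SU M F 2 →* H, ∀ k, k + 4 ≤ M → ∀ Y, f (bl M 4 k Y) = S.f k Y := by
  classical
  intro M hM
  induction M, hM using Nat.le_induction with
  | base =>
    intro H _ S
    refine ⟨S.f 0, fun k hk Y => ?_⟩
    obtain rfl : k = 0 := by omega
    rw [bl_self]
  | succ m hm ih =>
  intro H _ S
  obtain ⟨k, rfl⟩ : ∃ k, m = k + 4 := ⟨m - 4, by omega⟩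
  let R : Subgroup (H × SU (k + 5) F 2) :=
    ⨆ (j : ℕ) (_ : j + 4 ≤ k + 5), ((S.f j).prod (bl (k + 5) 4 j)).range
  have hle : ∀ j, j + 4 ≤ k + 5 → ∀ Y, ((S.f j).prod (bl (k + 5) 4 j)) Y ∈ R := fun j hj Y =>
    le_iSup₂ (f := fun j (_ : j + 4 ≤ k + 5) => ((S.f j).prod (bl (k + 5) 4 j)).range) j hj ⟨Y, rfl⟩
  let g : ℕ → (SU 4 F 2 →* R) := fun j =>
    if hj : j + 4 ≤ k + 5 then ((S.f j).prod (bl (k + 5) 4 j)).codRestrict R (hle j hj) else 1
  have hg : ∀ j, j + 4 ≤ k + 5 → ∀ Y, ((g j Y : R) : H × SU (k + 5) F 2) = (S.f j Y, bl (k + 5) 4 j Y) :=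
    fun j hj Y => by simp only [g, dif_pos hj]; rfl
  let S' : Sys4 F (k + 5) R :=
    { f := g
      agree := fun j hj Y => Subtype.ext (by
        rw [hg j (by omega), hg (j + 1) (by omega), S.agree j hj, bl_comp_apply (k := j) (l := 1) (m := j + 1) (by omega) (by norm_num) rfl,
          bl_comp_apply (k := j + 1) (l := 0) (m := j + 1) (by omega) (by norm_num) rfl])
      comm := fun j l a b i i' hj hl hi hi' hab hd A B => Subtype.ext (by
        rw [Subgroup.coe_mul, Subgroup.coe_mul, hg j hj, hg l hl]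
        refine Prod.ext (S.comm j l a b i i' hj hl hi hi' hab hd A B).eq ?_
        show bl _ _ _ _ * bl _ _ _ _ = bl _ _ _ _ * bl _ _ _ _
        rw [bl_comp_apply (m := j + i) hj hi rfl, bl_comp_apply (m := l + i') hl hi' rfl]
        exact (bl_commute hd (by omega) A B).eq) }
  let S1 : Sys4 F (k + 4) R :=
    { f := fun j => g (j + 1)
      agree := fun j hj Y => S'.agree (j + 1) (by omega) Y
      comm := fun j l a b i i' hj hl hi hi' hab hd A B =>
        S'.comm (j + 1) (l + 1) a b i i' (by omega) (by omega) hi hi' hab (by omega) A B }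
  obtain ⟨f1, hf1⟩ := ih S1
  let φ : R →* SU (k + 5) F 2 := (MonoidHom.snd H (SU (k + 5) F 2)).comp R.subtype
  have hφg : ∀ j, j + 4 ≤ k + 5 → ∀ Y, φ (g j Y) = bl (k + 5) 4 j Y := fun j hj Y => by
    show ((g j Y : R) : H × SU (k + 5) F 2).2 = _
    rw [hg j hj]
  have hinj := step_injective hF S' φ hφg (fun P hP => eq_top_iff.2 fun x _ => by
      have hR : R ≤ P.map R.subtype := iSup₂_le fun j hj => by
        rintro _ ⟨Y, rfl⟩
        exact ⟨g j Y, hP j hj Y, hg j hj Y⟩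
      obtain ⟨y, hy, e⟩ := hR x.2
      rwa [← Subtype.ext (e : (y : H × SU (k + 5) F 2) = x)]) f1 hf1
  have hsurj : Function.Surjective φ := MonoidHom.range_eq_top.1 (gen3 hF (by omega) φ.range fun j hj A => by
    obtain ⟨l, o, hl, ho, rfl⟩ := exists_blk3 (show 4 ≤ k + 5 by omega) hj
    exact ⟨g l (bl 4 3 o A), by rw [hφg l hl, bl_comp_apply (m := l + o) hl ho rfl]⟩)
  let e := MulEquiv.ofBijective φ ⟨hinj, hsurj⟩
  refine ⟨((MonoidHom.fst H (SU (k + 5) F 2)).comp R.subtype).comp e.symm.toMonoidHom, fun j hj Y => ?_⟩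
  have he : e.symm (bl (k + 5) 4 j Y) = g j Y := e.injective (by
    rw [MulEquiv.apply_symm_apply]; exact (hφg j hj Y).symm)
  show ((e.symm (bl (k + 5) 4 j Y) : R) : H × SU (k + 5) F 2).1 = _
  rw [he, hg j hj]

end Cfsg.Agent.Phan18
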