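import Cfsg.Agent.Phan18.Diag
import Cfsg.Agent.Lib.Unitary.Simple

/-!
Two overlapping standard pairs with commuting ends that generate a quotient of `SU₄(2)` are the consecutive
blocks of that group.
-/

set_option autoImplicit false
set_option linter.unusedSectionVars false
set_option maxHeartbeats 800000

namespace Cfsg.Agent.Phan18

open Cfsg.Agent.Unitary Cfsg.Agent.KSG55.Phan Matrix
open Cfsg.Agent.KSG55.SUStep (Orth)

universe u v

variable {F : Type u} [Field F] [Fintype F] (hF : Fintype.card F = 2 ^ 2) {G : Type v} [Group G]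

include hF

/-- A standard pair gives a homomorphism of `SU₃` with central kernel. -/
theorem exists_good' {V A B : Subgroup G} (h : Cfsg.IsStandardUnitaryPair V A B F 2) :
    ∃ ψ : SU 3 F 2 →* G, Good ψ A B V ∧ ψ.ker ≤ Subgroup.center _ := by
  have hb0 := suBlock_eq hF (k := 0) (by norm_num) (s := ({0, 1} : Set (Fin 3)))
    (fun j => by fin_cases j <;> simp)
  have hb1 := suBlock_eq hF (k := 1) (by norm_num) (s := ({1, 2} : Set (Fin 3)))
    (fun j => by fin_cases j <;> simp)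
  have key : ∀ π : SU 3 F 2 →* V, Function.Surjective π → π.ker ≤ Subgroup.center _ →
      (suBlock 3 F 2 {0, 1}).map (V.subtype.comp π) = A → (suBlock 3 F 2 {1, 2}).map (V.subtype.comp π) = B →
      ∃ ψ : SU 3 F 2 →* G, Good ψ A B V ∧ ψ.ker ≤ Subgroup.center _ := by
    intro π hsurj hker h0 h1
    have hinj : ∀ k, k + 2 ≤ 3 →
        Function.Injective ((V.subtype.comp π).comp (bl 3 2 k : SU 2 F 2 →* SU 3 F 2)) := fun k hk =>
      (injective_iff_map_eq_one _).2 fun X hX =>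
        eq_one_of_bl_center hF hk (hker (Subtype.ext hX : π (bl 3 2 k X) = 1))
    refine ⟨_, ⟨hinj 0 (by norm_num), hinj 1 (by norm_num), ?_, ?_, ?_,
        fun x hx => hker (Subtype.ext hx : π x = 1)⟩, fun x hx => hker (Subtype.ext hx : π x = 1)⟩
    · rw [MonoidHom.range_comp, ← hb0, h0]
    · rw [MonoidHom.range_comp, ← hb1, h1]
    · rw [MonoidHom.range_comp, MonoidHom.range_eq_top.2 hsurj, ← MonoidHom.range_eq_map, Subgroup.range_subtype]
  rcases h with ⟨ψ, h0, h1⟩ | ⟨ψ, h0, h1⟩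
  · exact key ψ.toMonoidHom ψ.surjective
      (by rw [(MonoidHom.ker_eq_bot_iff _).2 ψ.injective]; exact bot_le) h0 h1
  · refine key (ψ.toMonoidHom.comp (QuotientGroup.mk' _)) (ψ.surjective.comp (QuotientGroup.mk'_surjective _))
      (fun x hx => ?_) h0 h1
    have : (QuotientGroup.mk' (Subgroup.center (SU 3 F 2))) x = 1 := ψ.injective (hx.trans (map_one ψ).symm)
    exact (QuotientGroup.eq_one_iff _).1 this

variable {w : F} (hw : w ^ 3 = 1) (h1 : w ≠ 1)

include hw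

/-- The element of order three of `SU₂(2)`. -/
def delta : SU 2 F 2 := mk2 w 0 (by rw [zero_pow (by omega), add_zero]; exact hw) hF

theorem delta_isDiag : IsDiag w (delta hF hw) ![1, 2] := fun i => by
  funext j
  rw [smul_eI_apply hF, Pi.smul_apply, smul_eq_mul]
  fin_cases i <;> fin_cases j <;> simp [delta, mk2, mat, eI, pw, ZMod.val_one, neg_eq hF]
  rfl

/-- The diagonal elements in the two blocks of `SU₃`. -/
def d0 : SU 3 F 2 := bl 3 2 0 (delta hF hw)

/-- The second diagonal element. -/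
def d1 : SU 3 F 2 := bl 3 2 1 (delta hF hw)

theorem d0_isDiag : IsDiag w (d0 hF hw) ![1, 2, 0] := fun i => by
  fin_cases i
  · exact bl_smul_eI (show 0 + 2 ≤ 3 by norm_num) (i := 0) (j := 0) (delta_isDiag hF hw 0)
  · exact bl_smul_eI (show 0 + 2 ≤ 3 by norm_num) (i := 1) (j := 1) (delta_isDiag hF hw 1)
  · show _ = pw w 0 • _
    rw [pw_zero hw, one_smul]
    exact bl_fix hF (by norm_num) _ (Or.inr le_rfl)

theorem d1_isDiag : IsDiag w (d1 hF hw) ![0, 1, 2] := fun i => by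
  fin_cases i
  · show _ = pw w 0 • _
    rw [pw_zero hw, one_smul]
    exact bl_fix hF (by norm_num) _ (Or.inl (by simp))
  · exact bl_smul_eI (show 1 + 2 ≤ 3 by norm_num) (i := 0) (j := 0) (delta_isDiag hF hw 0)
  · exact bl_smul_eI (show 1 + 2 ≤ 3 by norm_num) (i := 1) (j := 1) (delta_isDiag hF hw 1)

include h1

/-- The elements of `SU₂(2)`. -/
theorem su2_cases (X : SU 2 F 2) : X = 1 ∨ X = delta hF hw ∨ X = (delta hF hw)⁻¹ ∨ X * X = 1 := by
  obtain ⟨e11, e10, hn⟩ := su2_shape hF X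
  by_cases hb : mat X 0 1 = 0
  · rw [hb, zero_pow (by omega), add_zero] at hn
    obtain ⟨k, hk⟩ := exists_pw hw h1 hF (ne_zero_of_norm hn)
    have hX : IsDiag w X ![k, -k] := fun i => by
      funext j
      rw [smul_eI_apply hF, Pi.smul_apply, smul_eq_mul]
      fin_cases i <;> fin_cases j <;> simp [eI, hb, e10, e11, ← hk]
      rw [hk]
      have := pw_cube hw k
      rw [pw_neg hw]
      exact eq_inv_of_mul_eq_one_left (by linear_combination this)
    rcases (show ∀ a : ZMod 3, a = 0 ∨ a = 1 ∨ a = -1 by decide) k with rfl | rfl | rfl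
    · refine Or.inl (hX.ext hw h1 hF ?_)
      convert isDiag_one hw h1 hF (n := 2) using 1
      decide
    · refine Or.inr (Or.inl (hX.ext hw h1 hF ?_))
      convert delta_isDiag hF hw using 1
      decide
    · refine Or.inr (Or.inr (Or.inl (hX.ext hw h1 hF ?_)))
      convert (delta_isDiag hF hw).inv hw h1 hF using 1
      decide
  · refine Or.inr (Or.inr (Or.inr ?_))
    have ha : mat X 0 0 = 0 := by
      rw [cube hF hb] at hn
      exact eq_zero_of_pow_eq_zero (n := 3) (by linear_combination hn)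
    refine su2_ext hF ?_ ?_
    · show (mat X * mat X) 0 0 = (1 : Matrix (Fin 2) (Fin 2) F) 0 0
      simp [Matrix.mul_apply, Fin.sum_univ_two, ha, e10, neg_eq hF, ← pow_succ']
      exact cube hF hb
    · show (mat X * mat X) 0 1 = (1 : Matrix (Fin 2) (Fin 2) F) 0 1
      simp [Matrix.mul_apply, Fin.sum_univ_two, ha, e11]

theorem delta_ne : delta hF hw ≠ 1 := fun e => by
  have := (delta_isDiag hF hw).unique hw h1 hF (show IsDiag w (delta hF hw) 0 from e ▸ isDiag_one hw h1 hF)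
  exact absurd (congrFun this 0) (by decide)

theorem delta_cube : delta hF hw * delta hF hw * delta hF hw = 1 :=
  ((delta_isDiag hF hw).mul hw h1 hF (delta_isDiag hF hw)).mul hw h1 hF (delta_isDiag hF hw) |>.ext hw h1 hF
    (by convert isDiag_one hw h1 hF (n := 2) using 1; decide)

theorem rel0 : bl 3 2 1 (W hF) * d0 hF hw * (bl 3 2 1 (W hF))⁻¹ = d0 hF hw * d1 hF hw := by
  rw [mul_inv_eq_iff_eq_mul]
  obtain ⟨a, b, c⟩ := blW hF (b := 3) (k := 1) (by norm_num)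
  have h := (d0_isDiag hF hw).mul hw h1 hF (d1_isDiag hF hw)
  refine ext_cols hF fun i => ?_
  rw [mul_smul, mul_smul, d0_isDiag hF hw, lineSmul]
  fin_cases i
  · rw [c ⟨0, by norm_num⟩ (by simp) (by simp), h]; congr 1
  · rw [show bl 3 2 1 (W hF) • (eI ⟨1, by norm_num⟩ : Fin 3 → F) = _ from a, h]; congr 1
  · rw [show bl 3 2 1 (W hF) • (eI ⟨2, by norm_num⟩ : Fin 3 → F) = _ from b, h]; congr 1

theorem rel1 : bl 3 2 0 (W hF) * d1 hF hw * (bl 3 2 0 (W hF))⁻¹ = d0 hF hw * d1 hF hw := by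
  rw [mul_inv_eq_iff_eq_mul]
  obtain ⟨a, b, c⟩ := blW hF (b := 3) (k := 0) (by norm_num)
  have h := (d0_isDiag hF hw).mul hw h1 hF (d1_isDiag hF hw)
  refine ext_cols hF fun i => ?_
  rw [mul_smul, mul_smul, d1_isDiag hF hw, lineSmul]
  fin_cases i
  · rw [show bl 3 2 0 (W hF) • (eI ⟨0, by norm_num⟩ : Fin 3 → F) = _ from a, h]; congr 1
  · rw [show bl 3 2 0 (W hF) • (eI ⟨1, by norm_num⟩ : Fin 3 → F) = _ from b, h]; congr 1
  · rw [c ⟨2, by norm_num⟩ (by simp) (by simp), h]; congr 1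

theorem W_inv : W hF * delta hF hw * (W hF)⁻¹ = (delta hF hw)⁻¹ := by
  rw [mul_inv_eq_iff_eq_mul]
  have h := (delta_isDiag hF hw).inv hw h1 hF
  refine ext_cols hF fun i => ?_
  rw [mul_smul, mul_smul, delta_isDiag hF hw, lineSmul]
  fin_cases i
  · rw [show W hF • (eI ⟨0, by norm_num⟩ : Fin 2 → F) = _ from W_e0 hF, h]; congr 1
  · rw [show W hF • (eI ⟨1, by norm_num⟩ : Fin 2 → F) = _ from W_e1 hF, h]; congr 1

theorem W_inv_bl (k : ℕ) :
    bl 3 2 k (W hF) * bl 3 2 k (delta hF hw) * (bl 3 2 k (W hF))⁻¹ = (bl 3 2 k (delta hF hw) : SU 3 F 2)⁻¹ := by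
  rw [← map_inv, ← map_mul, ← map_mul, W_inv hF hw h1, map_inv]

/-- An element commuting with a diagonal one preserves a line with a unique exponent. -/
theorem line_of_comm {n : ℕ} {x y : SU n F 2} {a : Fin n → ZMod 3} (hx : IsDiag w x a) (h : x * y = y * x)
    {j : Fin n} (ha : ∀ i, i ≠ j → a i ≠ a j) :
    y • (eI j : Fin n → F) = (y • (eI j : Fin n → F)) j • eI j := by
  funext i
  by_cases e : i = j
  · subst e; simp [eI]
  have h' := congrArg (fun z : SU n F 2 => mat z i j) h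
  change (mat x * mat y) i j = (mat y * mat x) i j at h'
  rw [hx.mat_eq hw h1 hF, Matrix.diagonal_mul, Matrix.mul_diagonal, mul_comm (mat y i j)] at h'
  have h0 : mat y i j = 0 := by
    by_contra hne
    exact ha i e (pw_inj hw h1 (mul_right_cancel₀ hne h'))
  rw [Pi.smul_apply, smul_eI_apply hF, h0]
  simp [eI, e]

omit hw h1 in
theorem char_one {n : ℕ} {y : SU n F 2} {j : Fin n} {c : F} (hc : y • (eI j : Fin n → F) = c • eI j) {k : ℕ}
    (hk : k = 2 ∨ k = 4) (hy : y ^ k = 1) : c = 1 := by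
  have hpow : ∀ m : ℕ, y ^ m • (eI j : Fin n → F) = c ^ m • eI j := fun m => by
    induction m with
    | zero => simp
    | succ m ih => rw [pow_succ, mul_smul, hc, lineSmul, ih, smul_smul, pow_succ']
  have hne : c ≠ 0 := fun e => by
    have := herm_smul_SU y (eI j) (eI j)
    rw [hc, e, herm_smul_left, herm_eI_eI hF, if_pos rfl, zero_mul] at this
    exact zero_ne_one this
  have h := congrFun (hpow k) j
  rw [hy, one_smul] at h
  simp [eI] at h
  have h3 := cube hF hne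
  rcases hk with rfl | rfl
  · linear_combination c * h + h3
  · linear_combination -(h3 * c) - h

/-- The image of a block of size two fixes a line whose exponent is unique. -/
theorem block_fix {n : ℕ} (θ : SU 2 F 2 →* SU n F 2) {a : Fin n → ZMod 3} (ha : IsDiag w (θ (delta hF hw)) a)
    {j : Fin n} (haj : a j = 0) {X : SU 2 F 2} {c : F} (hc : θ X • (eI j : Fin n → F) = c • eI j) :
    θ X • (eI j : Fin n → F) = eI j := by
  have hd : θ (delta hF hw) • (eI j : Fin n → F) = eI j := by rw [ha, haj, pw_zero hw, one_smul]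
  rcases su2_cases hF hw h1 X with rfl | rfl | rfl | h
  · rw [map_one, one_smul]
  · exact hd
  · rw [map_inv, inv_smul_eq_iff, hd]
  · rw [hc, char_one hF hc (Or.inl rfl) (by rw [← map_pow, pow_two, h, map_one]), one_smul]

/-- A realisation of `SU₃` in `SU₄` lies in the stabiliser of a coordinate. -/
theorem fix_line {ψ : SU 3 F 2 →* SU 4 F 2} (hker : ψ.ker ≤ Subgroup.center _) {a b : Fin 4 → ZMod 3}
    (ha : IsDiag w (ψ (d0 hF hw)) a) (hb : IsDiag w (ψ (d1 hF hw)) b) {j : Fin 4} (haj : a j = 0) (hbj : b j = 0)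
    (hz : ∀ i, i ≠ j → a i + b i + b i ≠ 0) :
    Function.Injective ψ ∧ ∀ Y, ψ Y • (eI j : Fin 4 → F) = eI j := by
  set z := d0 hF hw * d1 hF hw * d1 hF hw with hzdef
  have hzd : IsDiag w z (fun _ => 1) := by
    convert ((d0_isDiag hF hw).mul hw h1 hF (d1_isDiag hF hw)).mul hw h1 hF (d1_isDiag hF hw) using 1
    decide
  have hzs : ∀ v : Fin 3 → F, z • v = w • v := fun v => by
    show mat z *ᵥ v = _
    rw [hzd.mat_eq hw h1 hF]
    funext i
    simp [Matrix.mulVec_diagonal, pw_one hw]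
  have hψz : IsDiag w (ψ z) (a + b + b) := by
    rw [hzdef, map_mul, map_mul]; exact (ha.mul hw h1 hF hb).mul hw h1 hF hb
  have hzj : (a + b + b) j = 0 := by simp [haj, hbj]
  have hne : ψ z ≠ 1 := fun e => by
    have := hψz.unique hw h1 hF (e ▸ isDiag_one hw h1 hF)
    obtain ⟨i, hi⟩ : ∃ i : Fin 4, i ≠ j := ⟨if j = 0 then 1 else 0, by split <;> simp_all [eq_comm]⟩
    exact hz i hi (by have := congrFun this i; simpa using this)
  refine ⟨(injective_iff_map_eq_one ψ).2 fun Y hY => ?_, ?_⟩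
  · obtain ⟨r, hr⟩ := (mem_center_iff hF (by norm_num)).1 (hker hY)
    have hr0 : r ≠ 0 := fun e => by
      have := herm_smul_SU Y (eI 0) (eI 0)
      rw [hr, e, herm_smul_left, herm_eI_eI hF, if_pos rfl, zero_mul] at this
      exact zero_ne_one this
    obtain ⟨k, rfl⟩ := exists_pw hw h1 hF hr0
    have hYd : IsDiag w Y (fun _ => k) := fun i => hr _
    rcases (show ∀ a : ZMod 3, a = 0 ∨ a = 1 ∨ a = -1 by decide) k with rfl | rfl | rfl
    · exact hYd.ext hw h1 hF (isDiag_one hw h1 hF)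
    · exact absurd (hYd.ext hw h1 hF hzd ▸ hY) hne
    · have e : Y = z⁻¹ := hYd.ext hw h1 hF (hzd.inv hw h1 hF)
      rw [e, map_inv, inv_eq_one] at hY
      exact absurd hY hne
  have hline : ∀ Y, ψ Y • (eI j : Fin 4 → F) = (ψ Y • (eI j : Fin 4 → F)) j • eI j := fun Y =>
    line_of_comm hF hw h1 hψz (by
      rw [← map_mul, ← map_mul]
      exact congrArg ψ (eq_of_smul_eq_SU fun v => by rw [mul_smul z Y, mul_smul Y z, hzs, hzs, lineSmul]))
      fun i hi => by rw [hzj]; exact hz i hi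
  let P : Subgroup (SU 3 F 2) :=
    { carrier := {Y | ψ Y • (eI j : Fin 4 → F) = eI j}
      one_mem' := by show ψ 1 • _ = _; rw [map_one, one_smul]
      mul_mem' := fun {x y} (hx : ψ x • _ = _) (hy : ψ y • _ = _) => by
        show ψ (x * y) • _ = _; rw [map_mul, mul_smul, hy, hx]
      inv_mem' := fun {x} (hx : ψ x • _ = _) => by show ψ x⁻¹ • _ = _; rw [map_inv, inv_smul_eq_iff, hx] }
  have hP : P = ⊤ := su3_top hF hw h1 P
    (fun X => block_fix hF hw h1 (ψ.comp (bl 3 2 0)) ha haj (hline _))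
    (fun X => block_fix hF hw h1 (ψ.comp (bl 3 2 1)) hb hbj (hline _))
    fun d hd => by
      show ψ _ • _ = _
      rw [hline, char_one hF (hline _) (Or.inr rfl) (by rw [← map_pow, ← map_pow, fourier_four hF hw h1, map_one,
        map_one]), one_smul]
  exact fun Y => show Y ∈ P from hP ▸ Subgroup.mem_top Y

omit hw h1 in
theorem range_bl_eq {c b k : ℕ} (h : k + b ≤ c) {θ : SU b F 2 →* SU c F 2} (hinj : Function.Injective θ)
    (hfix : ∀ Y, ∀ j : Fin c, (j : ℕ) < k ∨ k + b ≤ j → θ Y • (eI j : Fin c → F) = eI j) :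
    θ.range = (bl c b k : SU b F 2 →* SU c F 2).range := by
  refine Subgroup.eq_of_le_of_card_ge (by rintro _ ⟨Y, rfl⟩; exact exists_bl hF h (hfix Y)) (le_of_eq ?_)
  rw [← Nat.card_congr (MonoidHom.ofInjective hinj).toEquiv,
    ← Nat.card_congr (MonoidHom.ofInjective (bl_injective h)).toEquiv]

omit hw h1 in
/-- `SU₄(2)` is simple. -/
theorem injective_of_SU4 {H : Type*} [Group H] (g : SU 4 F 2 →* H) {x : SU 4 F 2} (hx : g x ≠ 1) :
    Function.Injective g := by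
  obtain ⟨w, hw, h1⟩ := exists_omega hF
  haveI := Cfsg.Agent.Unitary.isSimpleGroup_PSU (F := F) (n := 4) hF (by norm_num) (by simp)
  have hc : ∀ y ∈ Subgroup.center (SU 4 F 2), y = 1 := fun y hy => by
    obtain ⟨r, hr⟩ := (mem_center_iff hF (by norm_num)).1 hy
    have hr0 : r ≠ 0 := fun e => by
      have := herm_smul_SU y (eI 0) (eI 0)
      rw [hr, e, herm_smul_left, herm_eI_eI hF, if_pos rfl, zero_mul] at this
      exact zero_ne_one this
    obtain ⟨k, rfl⟩ := exists_pw hw h1 hF hr0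
    have hYd : IsDiag w y (fun _ => k) := fun i => hr _
    have hk : k = 0 := (show ∀ a : ZMod 3, a + a + a + a = 0 → a = 0 by decide) k (hYd.sum_zero hw h1 hF)
    subst hk
    exact hYd.ext hw h1 hF (isDiag_one hw h1 hF)
  have hm := (inferInstance : g.ker.Normal).map (QuotientGroup.mk' (Subgroup.center (SU 4 F 2)))
    (QuotientGroup.mk'_surjective _)
  rcases IsSimpleGroup.eq_bot_or_eq_top_of_normal _ hm with h | h
  · refine (injective_iff_map_eq_one g).2 fun y hy => hc y ?_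
    have : QuotientGroup.mk' (Subgroup.center (SU 4 F 2)) y ∈ (⊥ : Subgroup _) := h ▸ ⟨y, hy, rfl⟩
    exact (QuotientGroup.eq_one_iff _).1 (Subgroup.mem_bot.1 this)
  · exfalso
    obtain ⟨y, hy, e⟩ : QuotientGroup.mk' (Subgroup.center (SU 4 F 2)) x ∈ g.ker.map _ := h ▸ Subgroup.mem_top _
    have := hc _ (QuotientGroup.eq.1 e)
    rw [inv_mul_eq_one] at this
    exact hx (this ▸ hy)

omit hw h1 in
/-- The homomorphism of `SU₄` attached to three consecutive indices. -/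
theorem exists_triple {A B C V V' : Subgroup G} (hV : Cfsg.IsStandardUnitaryPair V A B F 2)
    (hV' : Cfsg.IsStandardUnitaryPair V' B C F 2) (hcomm : ∀ x ∈ A, ∀ y ∈ C, x * y = y * x)
    (g : SU 4 F 2 →* ↥(V ⊔ V')) (hg : Function.Surjective g) :
    ∃ f : SU 4 F 2 →* G, Function.Injective f ∧
      (f.comp (bl 4 3 0 : SU 3 F 2 →* SU 4 F 2)).range = V ∧
      (f.comp (bl 4 3 1 : SU 3 F 2 →* SU 4 F 2)).range = V' ∧
      (f.comp (bl 4 2 0 : SU 2 F 2 →* SU 4 F 2)).range = A ∧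
      (f.comp (bl 4 2 1 : SU 2 F 2 →* SU 4 F 2)).range = B ∧
      (f.comp (bl 4 2 2 : SU 2 F 2 →* SU 4 F 2)).range = C := by
  classical
  obtain ⟨w, hw, h1⟩ := exists_omega hF
  obtain ⟨ψ, hψ, hψk⟩ := exists_good' hF hV
  obtain ⟨ψ', hψ', hψk'⟩ := exists_good' hF hV'
  set δ := delta hF hw
  have hδ : δ ≠ 1 := delta_ne hF hw h1
  have hm : ∀ Y, ψ Y ∈ V ⊔ V' := fun Y => Subgroup.mem_sup_left (hψ.rV ▸ ⟨Y, rfl⟩)
  have hm' : ∀ Y, ψ' Y ∈ V ⊔ V' := fun Y => Subgroup.mem_sup_right (hψ'.rV ▸ ⟨Y, rfl⟩)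
  obtain ⟨x, hx⟩ := hg ⟨_, hm (bl 3 2 0 δ)⟩
  have hgi : Function.Injective g := injective_of_SU4 hF g (x := x) fun e => hδ (hψ.inj0 (a₂ := 1) (by
    rw [hx] at e
    show ψ (bl 3 2 0 δ) = ψ (bl 3 2 0 1)
    rw [map_one, map_one]
    exact congrArg Subtype.val e))
  let g0 := MulEquiv.ofBijective g ⟨hgi, hg⟩
  let φ : SU 3 F 2 →* SU 4 F 2 := g0.symm.toMonoidHom.comp (ψ.codRestrict _ hm)
  let φ' : SU 3 F 2 →* SU 4 F 2 := g0.symm.toMonoidHom.comp (ψ'.codRestrict _ hm')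
  have hφ : ∀ Y, (g (φ Y) : G) = ψ Y := fun Y => congrArg Subtype.val (g0.apply_symm_apply _)
  have hφ' : ∀ Y, (g (φ' Y) : G) = ψ' Y := fun Y => congrArg Subtype.val (g0.apply_symm_apply _)
  have hge : ∀ {x y : SU 4 F 2}, (g x : G) = g y → x = y := fun h => hgi (Subtype.ext h)
  -- the four elements
  set dA := φ (d0 hF hw)
  set dB := φ (d1 hF hw)
  set dB' := φ' (d0 hF hw)
  set dC := φ' (d1 hF hw)
  have hcAC : ∀ X Y, φ (bl 3 2 0 X) * φ' (bl 3 2 1 Y) = φ' (bl 3 2 1 Y) * φ (bl 3 2 0 X) := fun X Y => hge (by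
    simp only [map_mul, Subgroup.coe_mul, hφ, hφ']
    exact hcomm _ (hψ.r0 ▸ ⟨X, rfl⟩) _ (hψ'.r1 ▸ ⟨Y, rfl⟩))
  have hB : dB' = dB ∨ dB' = dB⁻¹ := by
    obtain ⟨X, hX⟩ : ψ' (d0 hF hw) ∈ (ψ.comp (bl 3 2 1 : SU 2 F 2 →* SU 3 F 2)).range := by
      rw [hψ.r1, ← hψ'.r0]; exact ⟨δ, rfl⟩
    have hX' : φ (bl 3 2 1 X) = dB' := hge (by rw [hφ, hφ']; exact hX)
    have hne : X ≠ 1 := fun e => hδ (hψ'.inj0 (a₂ := 1) (by
      rw [map_one (ψ'.comp _), show (ψ'.comp (bl 3 2 0)) δ = ψ' (d0 hF hw) from rfl, ← hX, e, map_one]))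
    rcases su2_cases hF hw h1 X with e | e | e | e
    · exact absurd e hne
    · subst e; exact Or.inl hX'.symm
    · subst e; rw [map_inv, map_inv] at hX'; exact Or.inr hX'.symm
    · exfalso
      have h3 : X * X * X = 1 := by
        refine hψ.inj1 ?_
        rw [map_one, map_mul, map_mul, hX, ← map_mul, ← map_mul, d0, ← map_mul, ← map_mul,
          delta_cube hF hw h1, map_one, map_one]
      rw [e, one_mul] at h3
      exact hne h3
  have hcommBC : Commute dB' dC := by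
    show φ' _ * φ' _ = φ' _ * φ' _
    rw [← map_mul, ← map_mul]
    exact congrArg φ' (((d0_isDiag hF hw).mul hw h1 hF (d1_isDiag hF hw)).ext hw h1 hF
      (by rw [add_comm]; exact (d1_isDiag hF hw).mul hw h1 hF (d0_isDiag hF hw)))
  have hcommAB : Commute dA dB := by
    show φ _ * φ _ = φ _ * φ _
    rw [← map_mul, ← map_mul]
    exact congrArg φ (((d0_isDiag hF hw).mul hw h1 hF (d1_isDiag hF hw)).ext hw h1 hF
      (by rw [add_comm]; exact (d1_isDiag hF hw).mul hw h1 hF (d0_isDiag hF hw)))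
  have hcommBC' : Commute dB dC := by
    rcases hB with e | e
    · rw [← e]; exact hcommBC
    · rw [← inv_inv dB, ← e]; exact hcommBC.inv_left
  have hcommAC : Commute dA dC := hcAC δ δ
  have hcube : ∀ (θ : SU 2 F 2 →* SU 4 F 2) (v : Fin 4 → F), θ δ • θ δ • θ δ • v = v := fun θ v => by
    rw [← mul_smul, ← mul_smul, ← map_mul, ← map_mul, delta_cube hF hw h1, map_one, one_smul]
  obtain ⟨p, hp, hp1, a, b, c, hpe⟩ := exists_eigen hw h1 hF (x := dA) (y := dB) (z := dC)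
    (hcube (φ.comp (bl 3 2 0))) (hcube (φ.comp (bl 3 2 1))) (hcube (φ'.comp (bl 3 2 1)))
    hcommAB hcommAC hcommBC' 4 le_rfl
  obtain ⟨b', hb'e, hb'⟩ : ∃ b', (b' = b ∨ b' = -b) ∧ ∀ i, dB' • p i = pw w (b' i) • p i := by
    rcases hB with e | e
    · exact ⟨b, Or.inl rfl, fun i => e ▸ (hpe i).2.1⟩
    · refine ⟨-b, Or.inr rfl, fun i => ?_⟩
      rw [e, inv_smul_eq_iff, lineSmul, (hpe i).2.1, smul_smul, Pi.neg_apply, pw_neg hw,
        inv_mul_cancel₀ (pw_ne_zero hw _), one_smul]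
  obtain ⟨cj, hcj⟩ := exists_conj hw h1 hF p hp hp1
  have iA : IsDiag w (cj dA) a := fun i => hcj _ _ _ (hpe i).1
  have iB : IsDiag w (cj dB) b := fun i => hcj _ _ _ (hpe i).2.1
  have iB' : IsDiag w (cj dB') b' := fun i => hcj _ _ _ (hb' i)
  have iC : IsDiag w (cj dC) c := fun i => hcj _ _ _ (hpe i).2.2
  -- relations
  let θ : SU 3 F 2 →* SU 4 F 2 := cj.toMonoidHom.comp φ
  let θ' : SU 3 F 2 →* SU 4 F 2 := cj.toMonoidHom.comp φ'
  set W0 := bl 3 2 0 (W hF)
  set W1 := bl 3 2 1 (W hF)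
  have ne : ∀ (η : SU 3 F 2 →* SU 4 F 2) (ξ : SU 3 F 2 →* G), (∀ Y, (g (η Y) : G) = ξ Y) →
      ∀ k, Function.Injective (ξ.comp (bl 3 2 k : SU 2 F 2 →* SU 3 F 2)) → cj (η (bl 3 2 k δ)) ≠ 1 := by
    intro η ξ hη k hk e
    rw [← map_one cj] at e
    refine hδ (hk (a₂ := 1) ?_)
    rw [map_one (ξ.comp _), MonoidHom.comp_apply, ← hη, cj.injective e, map_one, OneMemClass.coe_one]
  have inv0 : θ W0 * θ (d0 hF hw) * (θ W0)⁻¹ = (θ (d0 hF hw))⁻¹ := by
    have e := congrArg θ (W_inv_bl hF hw h1 0)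
    rw [map_mul, map_mul, map_inv, map_inv] at e
    exact e
  have inv1 : θ W1 * θ (d1 hF hw) * (θ W1)⁻¹ = (θ (d1 hF hw))⁻¹ := by
    have e := congrArg θ (W_inv_bl hF hw h1 1)
    rw [map_mul, map_mul, map_inv, map_inv] at e
    exact e
  have inv1' : θ' W1 * θ' (d1 hF hw) * (θ' W1)⁻¹ = (θ' (d1 hF hw))⁻¹ := by
    have e := congrArg θ' (W_inv_bl hF hw h1 1)
    rw [map_mul, map_mul, map_inv, map_inv] at e
    exact e
  have okpair : ∀ (η : SU 3 F 2 →* SU 4 F 2) (u v : Fin 4 → ZMod 3), IsDiag w (η (d0 hF hw)) u →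
      IsDiag w (η (d1 hF hw)) v → η (d0 hF hw) ≠ 1 → η (d1 hF hw) ≠ 1 →
      Comb.Ok u ∧ Comb.Ok v ∧ Comb.Ok (u + v) ∧ Comb.tau u = Comb.tau v ∧ Comb.tau (u + v) = Comb.tau u := by
    intro η u v hu hv hu1 hv1
    have t1 : Comb.tau u = Comb.tau (u + v) := by
      refine tau_conj hw h1 hF hu (hu.mul hw h1 hF hv) (t := η W1) ?_
      rw [← map_inv, ← map_mul, ← map_mul, rel0 hF hw h1, map_mul]
    have t2 : Comb.tau v = Comb.tau (u + v) := by
      refine tau_conj hw h1 hF hv (hu.mul hw h1 hF hv) (t := η W0) ?_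
      rw [← map_inv, ← map_mul, ← map_mul, rel1 hF hw h1, map_mul]
    have t3 : Comb.tau u = Comb.tau (-u) := by
      refine tau_conj hw h1 hF hu (hu.inv hw h1 hF) (t := η W0) ?_
      have e := congrArg η (W_inv_bl hF hw h1 0)
      rw [map_mul, map_mul, map_inv, map_inv] at e
      exact e
    have t4 : Comb.tau v = Comb.tau (-v) := by
      refine tau_conj hw h1 hF hv (hv.inv hw h1 hF) (t := η W1) ?_
      have e := congrArg η (W_inv_bl hF hw h1 1)
      rw [map_mul, map_mul, map_inv, map_inv] at e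
      exact e
    have t5 : Comb.tau (-u) = Comb.tau (-(u + v)) := by
      refine tau_conj hw h1 hF (hu.inv hw h1 hF) ((hu.mul hw h1 hF hv).inv hw h1 hF) (t := η W1) ?_
      rw [← map_mul η (d0 hF hw), ← rel0 hF hw h1, map_mul, map_mul, map_inv]
      simp only [_root_.mul_inv_rev, inv_inv, mul_assoc]
      rfl
    refine ⟨⟨hu.ne_zero hw h1 hF hu1, hu.sum_zero hw h1 hF, t3⟩, ⟨hv.ne_zero hw h1 hF hv1, hv.sum_zero hw h1 hF, t4⟩,
      ⟨(hu.mul hw h1 hF hv).ne_zero hw h1 hF fun e => hu1 ?_, (hu.mul hw h1 hF hv).sum_zero hw h1 hF,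
        t1.symm.trans (t3.trans t5)⟩, t1.trans t2.symm, t1.symm⟩
    rw [← map_mul, ← rel0 hF hw h1, map_mul, map_mul, map_inv, mul_inv_eq_one, mul_eq_left] at e
    exact e
  obtain ⟨oa, ob, oab, tab, tab'⟩ := okpair θ a b iA iB (ne φ ψ hφ 0 hψ.inj0) (ne φ ψ hφ 1 hψ.inj1)
  obtain ⟨-, oc, obc, tbc, tbc'⟩ := okpair θ' b' c iB' iC (ne φ' ψ' hφ' 0 hψ'.inj0) (ne φ' ψ' hφ' 1 hψ'.inj1)
  have hab : a ≠ b := fun e => by
    have e' : dA = dB := cj.injective (iA.ext hw h1 hF (e ▸ iB))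
    have hc1 : φ' W1 * dB' = dB' * φ' W1 := by
      have h := (hcAC δ (W hF)).symm
      rcases hB with r | r
      · rw [r, ← e']; exact h
      · rw [r, ← e']; exact (show Commute (φ' W1) dA from h).inv_right
    refine ne φ' ψ' hφ' 1 hψ'.inj1 ?_
    rw [← map_one cj]
    refine congrArg cj ?_
    have h2 : dB' * φ' (d1 hF hw) = dB' := by
      rw [← map_mul, ← rel0 hF hw h1, map_mul, map_mul, map_inv]
      exact mul_inv_eq_iff_eq_mul.2 hc1
    exact mul_eq_left.1 h2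
  have hbc : b' ≠ c := fun e => by
    have e' : dB' = dC := cj.injective (iB'.ext hw h1 hF (e ▸ iC))
    have hc1 : φ W0 * dB = dB * φ W0 := by
      have h := hcAC (W hF) δ
      rcases hB with r | r
      · rw [← r, e']; exact h
      · rw [show dB = dC⁻¹ by rw [← e', r, inv_inv]]
        exact (show Commute (φ W0) dC from h).inv_right
    refine ne φ ψ hφ 0 hψ.inj0 ?_
    rw [← map_one cj]
    refine congrArg cj ?_
    have h2 : φ (d0 hF hw) * dB = dB := by
      rw [← map_mul, ← rel1 hF hw h1, map_mul, map_mul, map_inv]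
      exact mul_inv_eq_iff_eq_mul.2 hc1
    exact mul_eq_right.1 h2
  have hcA : ∀ X Y, θ (bl 3 2 0 X) * θ' (bl 3 2 1 Y) = θ' (bl 3 2 1 Y) * θ (bl 3 2 0 X) := fun X Y => by
    show cj _ * cj _ = cj _ * cj _
    rw [← map_mul, ← map_mul, hcAC]
  have hsA : ∀ i, ∃ j, a j = -a i ∧ c j = c i := row_condition hw h1 hF iA iC (t := θ W0) inv0 (hcA (W hF) δ)
  have hsC : ∀ i, ∃ j, c j = -c i ∧ a j = a i :=
    row_condition hw h1 hF iC iA (t := θ' W1) inv1' (hcA δ (W hF)).symm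
  obtain ⟨σ, hσ, s, t, hs, ht, sa, sb, sb', sc⟩ :=
    Comb.triple oa ob oab hab tab tab' hb'e oc obc hbc tbc tbc' hsA hsC
  -- the final coordinates
  obtain ⟨cf, hcf⟩ := exists_conj hw h1 hF (p ∘ σ) ⟨fun i => hp.ne _, fun i j h => hp.perp _ _ (hσ.ne h)⟩ (fun i => hp1 (σ i))
  let θ1 : SU 3 F 2 →* SU 4 F 2 := cf.toMonoidHom.comp φ
  let θ2 : SU 3 F 2 →* SU 4 F 2 := cf.toMonoidHom.comp φ'
  have jA : IsDiag w (θ1 (d0 hF hw)) ![s, -s, 0, 0] := sa ▸ fun i => hcf _ _ _ (hpe (σ i)).1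
  have jB : IsDiag w (θ1 (d1 hF hw)) ![0, s, -s, 0] := sb ▸ fun i => hcf _ _ _ (hpe (σ i)).2.1
  have jB' : IsDiag w (θ2 (d0 hF hw)) ![0, t, -t, 0] := sb' ▸ fun i => hcf _ _ _ (hb' (σ i))
  have jC : IsDiag w (θ2 (d1 hF hw)) ![0, 0, t, -t] := sc ▸ fun i => hcf _ _ _ (hpe (σ i)).2.2
  have hk : ∀ {η : SU 3 F 2 →* SU 4 F 2} {ξ : SU 3 F 2 →* G}, (∀ Y, (g (η Y) : G) = ξ Y) →
      ξ.ker ≤ Subgroup.center _ → (cf.toMonoidHom.comp η).ker ≤ Subgroup.center _ := fun hη hξ Y hY => hξ (by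
    rw [MonoidHom.mem_ker, ← hη, cf.injective (hY.trans (map_one cf).symm), map_one, OneMemClass.coe_one])
  obtain ⟨i1, f3⟩ := fix_line hF hw h1 (ψ := θ1) (hk hφ hψk) jA jB (j := 3) rfl rfl
    ((show ∀ s : ZMod 3, s ≠ 0 → ∀ i : Fin 4, i ≠ 3 →
      (![s, -s, 0, 0] : Fin 4 → ZMod 3) i + (![0, s, -s, 0] : Fin 4 → ZMod 3) i + (![0, s, -s, 0] : Fin 4 → ZMod 3) i ≠ 0 by
        decide) s hs)
  obtain ⟨i2, f0⟩ := fix_line hF hw h1 (ψ := θ2) (hk hφ' hψk') jB' jC (j := 0) rfl rfl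
    ((show ∀ s : ZMod 3, s ≠ 0 → ∀ i : Fin 4, i ≠ 0 →
      (![0, s, -s, 0] : Fin 4 → ZMod 3) i + (![0, 0, s, -s] : Fin 4 → ZMod 3) i + (![0, 0, s, -s] : Fin 4 → ZMod 3) i ≠ 0 by
        decide) t ht)
  have hAC : ∀ X Y, θ1 (bl 3 2 0 X) * θ2 (bl 3 2 1 Y) = θ2 (bl 3 2 1 Y) * θ1 (bl 3 2 0 X) := fun X Y => by
    show cf _ * cf _ = cf _ * cf _
    rw [← map_mul, ← map_mul, hcAC]
  have r430 : θ1.range = (bl 4 3 0 : SU 3 F 2 →* SU 4 F 2).range :=
    range_bl_eq hF (by norm_num) i1 fun Y j hj => by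
      obtain rfl : j = 3 := by omega
      exact f3 Y
  have r431 : θ2.range = (bl 4 3 1 : SU 3 F 2 →* SU 4 F 2).range :=
    range_bl_eq hF (by norm_num) i2 fun Y j hj => by
      obtain rfl : j = 0 := by omega
      exact f0 Y
  have r420 : (θ1.comp (bl 3 2 0)).range = (bl 4 2 0 : SU 2 F 2 →* SU 4 F 2).range :=
    range_bl_eq hF (by norm_num) (i1.comp (bl_injective (by norm_num))) fun X j hj => by
      obtain rfl | rfl : j = 2 ∨ j = 3 := by omega
      · exact block_fix hF hw h1 (θ1.comp (bl 3 2 0)) jA rfl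
          (line_of_comm hF hw h1 jC (hAC X δ).symm ((show ∀ t : ZMod 3, t ≠ 0 → ∀ i : Fin 4, i ≠ 2 →
            (![0, 0, t, -t] : Fin 4 → ZMod 3) i ≠ (![0, 0, t, -t] : Fin 4 → ZMod 3) 2 by decide) t ht))
      · exact f3 _
  have r421 : (θ1.comp (bl 3 2 1)).range = (bl 4 2 1 : SU 2 F 2 →* SU 4 F 2).range :=
    range_bl_eq hF (by norm_num) (i1.comp (bl_injective (by norm_num))) fun X j hj => by
      obtain rfl | rfl : j = 0 ∨ j = 3 := by omega
      · obtain ⟨Y, hY⟩ : ψ (bl 3 2 1 X) ∈ (ψ'.comp (bl 3 2 0 : SU 2 F 2 →* SU 3 F 2)).range := by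
          rw [hψ'.r0, ← hψ.r1]; exact ⟨X, rfl⟩
        have e : φ' (bl 3 2 0 Y) = φ (bl 3 2 1 X) := hge (by rw [hφ, hφ']; exact hY)
        show cf (φ (bl 3 2 1 X)) • _ = _
        rw [← e]
        exact f0 _
      · exact f3 _
  have r422 : (θ2.comp (bl 3 2 1)).range = (bl 4 2 2 : SU 2 F 2 →* SU 4 F 2).range :=
    range_bl_eq hF (by norm_num) (i2.comp (bl_injective (by norm_num))) fun X j hj => by
      obtain rfl | rfl : j = 0 ∨ j = 1 := by omega
      · exact f0 _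
      · exact block_fix hF hw h1 (θ2.comp (bl 3 2 1)) jC rfl
          (line_of_comm hF hw h1 jA (hAC δ X) ((show ∀ t : ZMod 3, t ≠ 0 → ∀ i : Fin 4, i ≠ 1 →
            (![t, -t, 0, 0] : Fin 4 → ZMod 3) i ≠ (![t, -t, 0, 0] : Fin 4 → ZMod 3) 1 by decide) s hs))
  let f : SU 4 F 2 →* G := ((V ⊔ V').subtype.comp g).comp cf.symm.toMonoidHom
  have hf : ∀ x, f (cf x) = (g x : G) := fun x => congrArg (fun y => (g y : G)) (cf.symm_apply_apply x)
  have key : ∀ {a : ℕ} (η : SU a F 2 →* SU 4 F 2) (e : SU a F 2 →* SU 4 F 2) (ξ : SU a F 2 →* G),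
      (cf.toMonoidHom.comp η).range = e.range → (∀ Y, (g (η Y) : G) = ξ Y) → (f.comp e).range = ξ.range := by
    intro a η e ξ h h'
    rw [MonoidHom.range_comp, ← h, ← MonoidHom.range_comp]
    exact congrArg MonoidHom.range (MonoidHom.ext fun Y => (hf _).trans (h' Y))
  refine ⟨f, fun x y h => cf.symm.injective (hgi (Subtype.ext h)), ?_, ?_, ?_, ?_, ?_⟩
  · rw [key φ _ ψ r430 hφ, hψ.rV]
  · rw [key φ' _ ψ' r431 hφ', hψ'.rV]
  · rw [key (φ.comp (bl 3 2 0)) _ (ψ.comp (bl 3 2 0)) r420 (fun X => hφ _), hψ.r0]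
  · rw [key (φ.comp (bl 3 2 1)) _ (ψ.comp (bl 3 2 1)) r421 (fun X => hφ _), hψ.r1]
  · rw [key (φ'.comp (bl 3 2 1)) _ (ψ'.comp (bl 3 2 1)) r422 (fun X => hφ' _), hψ'.r1]

end Cfsg.Agent.Phan18
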